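import Mathlib

/-!
# Groups whose involutions form an elementary abelian normal subgroup
-/

set_option autoImplicit false

namespace Cfsg.Agent.Pyramidal

variable {X : Type*} [Group X]

/-- The elements of square one are exactly the elements of the normal subgroup `E`. -/
structure InvolIn (E : Subgroup X) : Prop where
  normal : E.Normal
  comm : ∀ a ∈ E, ∀ b ∈ E, a * b = b * a
  invol : ∀ x : X, x * x = 1 ↔ x ∈ E

namespace InvolIn

variable {E : Subgroup X} (h : InvolIn E)
include h

theorem mem_of_sq {x : X} (hx : x * x = 1) : x ∈ E := (h.invol x).1 hx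

theorem sq_eq_one {x : X} (hx : x ∈ E) : x * x = 1 := (h.invol x).2 hx

theorem conj_mem {a : X} (ha : a ∈ E) (x : X) : x * a * x⁻¹ ∈ E := h.normal.conj_mem a ha x

theorem inv_eq {a : X} (ha : a ∈ E) : a⁻¹ = a := inv_eq_of_mul_eq_one_right (h.sq_eq_one ha)

end InvolIn

end Cfsg.Agent.Pyramidal
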