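import Cfsg.Agent.Lib.Pyramidal.Basic
import Cfsg.Agent.Lib.Pyramidal.Central.Quad
import Cfsg.Agent.Lib.Pyramidal.Central.Group
import Cfsg.Agent.Lib.Solv.TwoAuto.Main

/-!
# The centralizer of the involutions is solvable

If the involutions of `X` are the non-identity elements of a normal elementary abelian subgroup `E`,
some element permutes them transitively and `O(X) = 1`, then `C_X(E)` is solvable: its perfect residual
would be a central extension by `E` whose squaring map on a Sylow 2-subgroup is anisotropic with equal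
fibres.
-/

set_option autoImplicit false
set_option linter.style.haveILetI false

namespace Cfsg.Agent.Pyramidal

open Cfsg Cfsg.Agent.Char.FreeInv

variable {X : Type} [Group X] [Finite X] {E : Subgroup X}

omit [Finite X] in
theorem transitive_of_conjNormal_eq [E.Normal] {a b : X}
    (heq : (MulAut.conjNormal a : MulAut E) = MulAut.conjNormal b)
    (htr : ∀ u ∈ E, ∀ v ∈ E, u ≠ 1 → v ≠ 1 → ∃ i : ℕ, a ^ i * u * (a ^ i)⁻¹ = v) :
    ∀ u ∈ E, ∀ v ∈ E, u ≠ 1 → v ≠ 1 → ∃ i : ℕ, b ^ i * u * (b ^ i)⁻¹ = v := by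
  intro u hu v hv hu1 hv1
  obtain ⟨i, hi⟩ := htr u hu v hv hu1 hv1
  refine ⟨i, ?_⟩
  rw [← hi, ← MulAut.conjNormal_apply (b ^ i) (⟨u, hu⟩ : E),
    ← MulAut.conjNormal_apply (a ^ i) (⟨u, hu⟩ : E), map_pow, map_pow, heq]

/-- The odd part of a transitive element is transitive. -/
theorem exists_odd_transitive [E.Normal] {n : ℕ} (hn : 0 < n) (hc : Nat.card E = 2 ^ n) {x : X}
    (htr : ∀ u ∈ E, ∀ v ∈ E, u ≠ 1 → v ≠ 1 → ∃ i : ℕ, x ^ i * u * (x ^ i)⁻¹ = v) :
    ∃ y ∈ Subgroup.zpowers x, Odd (orderOf y) ∧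
      ∀ u ∈ E, ∀ v ∈ E, u ≠ 1 → v ≠ 1 → ∃ i : ℕ, y ^ i * u * (y ^ i)⁻¹ = v := by
  classical
  obtain ⟨a, m, hm, hxm⟩ := Nat.exists_eq_pow_mul_and_not_dvd (orderOf_pos x).ne' 2 (by norm_num)
  have hcard : 1 < Nat.card E := by rw [hc]; exact Nat.one_lt_two_pow hn.ne'
  haveI : Nontrivial E := Finite.one_lt_card_iff_nontrivial.1 hcard
  obtain ⟨e0, he0⟩ := exists_ne (1 : E)
  set α : MulAut E := MulAut.conjNormal x
  have hαtr : ∀ u : E, u ≠ 1 → ∃ i : ℕ, (α ^ i) e0 = u := by
    intro u hu
    obtain ⟨i, hi⟩ := htr e0 e0.2 u u.2 (fun e => he0 (Subtype.ext e)) (fun e => hu (Subtype.ext e))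
    refine ⟨i, Subtype.ext ?_⟩
    rw [← map_pow, MulAut.conjNormal_apply]
    exact hi
  have hord : orderOf α = 2 ^ n - 1 := by
    have hbij : Function.Bijective (fun β : Subgroup.zpowers α =>
        (⟨(β : MulAut E) e0, fun e => he0 ((MulEquiv.map_eq_one_iff _).1 e)⟩ : {u : E // u ≠ 1})) := by
      constructor
      · rintro ⟨b, hb⟩ ⟨c, hc'⟩ he
        have he' : b e0 = c e0 := congrArg Subtype.val he
        refine Subtype.ext (MulEquiv.ext fun u => ?_)
        by_cases hu : u = 1
        · simp [hu]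
        obtain ⟨i, rfl⟩ := hαtr u hu
        obtain ⟨j, rfl⟩ := Subgroup.mem_zpowers_iff.1 hb
        obtain ⟨l, rfl⟩ := Subgroup.mem_zpowers_iff.1 hc'
        rw [← MulAut.mul_apply, ← MulAut.mul_apply, ← zpow_natCast α i, ← zpow_add, ← zpow_add,
          add_comm j, add_comm l, zpow_add, zpow_add, MulAut.mul_apply, MulAut.mul_apply, he']
      · rintro ⟨u, hu⟩
        obtain ⟨i, hi⟩ := hαtr u hu
        exact ⟨⟨α ^ i, Subgroup.npow_mem_zpowers α i⟩, Subtype.ext hi⟩
    have h1 := Nat.card_eq_of_bijective _ hbij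
    rw [Nat.card_zpowers] at h1
    rw [h1, ← hc]
    haveI : Fintype E := Fintype.ofFinite E
    rw [Nat.card_eq_fintype_card, Nat.card_eq_fintype_card, Fintype.card_subtype_compl,
      Fintype.card_subtype_eq]
  refine ⟨x ^ 2 ^ a, Subgroup.npow_mem_zpowers x _, ?_, ?_⟩
  · rw [orderOf_pow_of_dvd (by positivity) (hxm ▸ dvd_mul_right _ _), hxm,
      Nat.mul_div_cancel_left _ (pow_pos (by norm_num) a), ← Nat.not_even_iff_odd, even_iff_two_dvd]
    exact hm
  · intro u hu v hv hu1 hv1
    obtain ⟨i, hi⟩ := htr u hu v hv hu1 hv1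
    have hco : (2 ^ a).Coprime (orderOf α) := by
      refine Nat.Coprime.pow_left a (Nat.coprime_two_left.2 ?_)
      rw [hord]
      exact Nat.Even.sub_odd Nat.one_le_two_pow (Nat.even_pow.2 ⟨even_two, hn.ne'⟩) odd_one
    obtain ⟨r, hr⟩ := exists_pow_eq_self_of_coprime hco
    refine ⟨r * i, ?_⟩
    rw [← hi, ← MulAut.conjNormal_apply ((x ^ 2 ^ a) ^ (r * i)) (⟨u, hu⟩ : E),
      ← MulAut.conjNormal_apply (x ^ i) (⟨u, hu⟩ : E), map_pow, map_pow, map_pow, pow_mul, hr]

/-- The centralizer of the involutions is solvable. -/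
theorem centralizer_solvable {n : ℕ} (hn : n.Prime) (h : InvolIn E) (hc : Nat.card E = 2 ^ n)
    (hO : Cfsg.oddCore X = ⊥) (x : X)
    (htr : ∀ u ∈ E, ∀ v ∈ E, u ≠ 1 → v ≠ 1 → ∃ i : ℕ, x ^ i * u * (x ^ i)⁻¹ = v) :
    Group.IsSolvable (Subgroup.centralizer (E : Set X)) := by
  classical
  haveI : Fact (Nat.Prime 2) := ⟨Nat.prime_two⟩
  haveI := h.normal
  have hn2 := hn.two_le
  by_contra hns
  let C : Subgroup X := Subgroup.centralizer (E : Set X)
  haveI : C.Normal := inferInstanceAs (Subgroup.centralizer (E : Set X)).Normal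
  obtain ⟨m, hm⟩ : ∃ m, derivedSeries C (m + 1) = derivedSeries C m := by
    by_contra hcon
    push Not at hcon
    have key : ∀ i, Nat.card (derivedSeries C i) + i ≤ Nat.card C := by
      intro i
      induction i with
      | zero => simpa using Subgroup.card_le_card_group (derivedSeries C 0)
      | succ i ih =>
        have h1 : Nat.card (derivedSeries C (i + 1)) < Nat.card (derivedSeries C i) := by
          refine Set.ncard_lt_ncard ?_ (Set.toFinite _)
          exact SetLike.coe_ssubset_coe.2 (lt_of_le_of_ne (derivedSeries_antitone C (Nat.le_succ i)) (hcon i))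
        omega
    have := key (Nat.card C + 1)
    omega
  let L : Subgroup X := (derivedSeries C m).map C.subtype
  haveI hLn : L.Normal := ConjAct.normal_of_characteristic_of_normal
  have hLC : L ≤ C := Subgroup.map_subtype_le _
  have hcen : ∀ l ∈ L, ∀ e ∈ E, e * l = l * e := fun l hl e he =>
    Subgroup.mem_centralizer_iff.1 (hLC hl) e he
  have hperf : commutator L = ⊤ := by
    refine Subgroup.map_injective L.subtype_injective ?_
    rw [Subgroup.map_subtype_commutator, ← MonoidHom.range_eq_map, Subgroup.range_subtype]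
    show ⁅(derivedSeries C m).map C.subtype, (derivedSeries C m).map C.subtype⁆ = L
    rw [← Subgroup.map_commutator, ← derivedSeries_succ, hm]
  have hEL : E ≤ L := by
    have hLne : L ≠ ⊥ := by
      intro he
      exact hns ((Group.isSolvable_def C).2 ⟨m, (Subgroup.map_eq_bot_iff_of_injective _ C.subtype_injective).1 he⟩)
    have h2 : 2 ∣ Nat.card L := by
      by_contra h2
      refine hLne (eq_bot_iff.2 (le_trans ?_ hO.le))
      exact le_sSup ⟨hLn, ((Nat.Prime.coprime_iff_not_dvd Nat.prime_two).2 h2).symm⟩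
    obtain ⟨t, ht⟩ := exists_prime_orderOf_dvd_card' 2 h2
    have htt : (t : X) * t = 1 := by
      have := pow_orderOf_eq_one (t : X)
      rwa [Subgroup.orderOf_coe, ht, pow_two] at this
    have ht1 : (t : X) ≠ 1 := fun e => by
      rw [show t = 1 from Subtype.ext e, orderOf_one] at ht; omega
    intro v hv
    rcases eq_or_ne v 1 with rfl | hv1
    · exact one_mem _
    obtain ⟨i, rfl⟩ := htr t (h.mem_of_sq htt) v hv ht1 hv1
    exact hLn.conj_mem _ t.2 _
  -- a Sylow subgroup with a transitive element of odd order normalizing it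
  obtain ⟨x1, -, -, htr1⟩ := exists_odd_transitive (by omega) hc htr
  let T0 : Sylow 2 L := default
  let T : Subgroup X := (T0 : Subgroup L).map L.subtype
  obtain ⟨r, hr, l, hl, hrl⟩ : ∃ r ∈ Subgroup.normalizer (T : Set X), ∃ l ∈ L, r * l = x1 := by
    have h1 : x1 ∈ Subgroup.normalizer (T : Set X) ⊔ L := by
      rw [Sylow.normalizer_sup_eq_top T0]; trivial
    exact Subgroup.mem_sup_of_normal_right.1 h1
  obtain ⟨y, hy, hyodd, htry⟩ := exists_odd_transitive (by omega) hc
    (transitive_of_conjNormal_eq (a := x1) (b := r) (MulEquiv.ext fun u => Subtype.ext (by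
      rw [MulAut.conjNormal_apply, MulAut.conjNormal_apply, ← hrl, mul_inv_rev]
      calc r * l * u * (l⁻¹ * r⁻¹) = r * (l * u) * l⁻¹ * r⁻¹ := by group
        _ = r * u * r⁻¹ := by rw [← hcen l hl u u.2]; group)) htr1)
  have hyN : y ∈ Subgroup.normalizer (T : Set X) := (Subgroup.zpowers_le.2 hr) hy
  let EL : Subgroup L := E.subgroupOf L
  haveI : EL.Normal := inferInstanceAs (E.subgroupOf L).Normal
  have hELT : EL ≤ (T0 : Subgroup L) := by
    have hEp : IsPGroup 2 EL := (IsPGroup.of_card (p := 2) (n := n) hc).comap_subtype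
    have h1 := T0.is_maximal' (hEp.to_sup_of_normal_left T0.isPGroup') le_sup_right
    exact h1 ▸ le_sup_left
  have hET : E ≤ T := fun e he => ⟨⟨e, hEL he⟩, hELT he, rfl⟩
  obtain ⟨e0, he0, he01⟩ : ∃ e ∈ E, e ≠ 1 := by
    by_contra hall
    push Not at hall
    have h1 : Nat.card E = 1 := by
      rw [(Subgroup.eq_bot_iff_forall E).2 hall, Subgroup.card_bot]
    rw [hc] at h1
    have := Nat.one_lt_two_pow (show n ≠ 0 by omega)
    omega
  by_cases hTab : ∀ a ∈ (T0 : Subgroup L), ∀ b ∈ (T0 : Subgroup L), a * b = b * a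
  · -- transfer
    have hab : IsMulCommutative (T0 : Subgroup L) := ⟨⟨fun a b => Subtype.ext (hTab _ a.2 _ b.2)⟩⟩
    have h1 := eq_one_of_fixed hab (pResidual_eq_top hperf)
      (u := (⟨⟨e0, hEL he0⟩, hELT he0⟩ : (T0 : Subgroup L))) fun α hα => by
        obtain ⟨k, -, hk⟩ := mem_autGrp.1 hα
        refine Subtype.ext ((hk _).trans (Subtype.ext ?_))
        show (k : X) * e0 * (k : X)⁻¹ = e0
        rw [← hcen k k.2 e0 he0, mul_inv_cancel_right]
    exact he01 (congrArg (fun z : (T0 : Subgroup L) => ((z : L) : X)) h1)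
  push Not at hTab
  obtain ⟨a0, ha0, b0, hb0, hab0⟩ := hTab
  -- squares lie in `E`
  have hsqT : ∀ t ∈ T, t * t ∈ E := by
    let φ := T.normalizerMonoidHom
    let K : Subgroup (MulAut T) := Subgroup.zpowers (φ ⟨y, hyN⟩)
    have hKodd : Odd (Nat.card K) := by
      rw [Nat.card_zpowers]
      exact hyodd.of_dvd_nat ((orderOf_map_dvd φ _).trans (by rw [Subgroup.orderOf_mk]))
    have hKsol : Group.IsSolvable K := Group.isSolvable_of_comm fun a b => mul_comm' a b
    have h2T : IsPGroup 2 T := T0.isPGroup'.map L.subtype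
    have hTL : T ≤ L := Subgroup.map_subtype_le _
    have hinvc : ∀ p : T, p * p = 1 → p ∈ Subgroup.center T := fun p hp =>
      Subgroup.mem_center_iff.2 fun q => Subtype.ext
        (hcen q (hTL q.2) p (h.mem_of_sq (congrArg Subtype.val hp))).symm
    have htrK : ∀ p q : T, p ≠ 1 → p * p = 1 → q ≠ 1 → q * q = 1 → ∃ k ∈ K, k p = q := by
      intro p q hp1 hp hq1 hq
      obtain ⟨i, hi⟩ := htry p (h.mem_of_sq (congrArg Subtype.val hp)) q
        (h.mem_of_sq (congrArg Subtype.val hq)) (fun e => hp1 (Subtype.ext e)) (fun e => hq1 (Subtype.ext e))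
      refine ⟨φ (⟨y, hyN⟩ ^ i), by rw [map_pow]; exact Subgroup.npow_mem_zpowers _ i, Subtype.ext ?_⟩
      exact hi
    obtain ⟨e1, he1, he11, he10⟩ : ∃ e ∈ E, e ≠ 1 ∧ e ≠ e0 := by
      by_contra hall
      push Not at hall
      have h1 : (E : Set X).ncard ≤ ({1, e0} : Set X).ncard :=
        Set.ncard_le_ncard (fun e he => by
          rcases eq_or_ne e 1 with h1 | h1
          · exact Or.inl h1
          · exact Or.inr (hall e he h1)) (Set.toFinite _)
      have h2 : ({1, e0} : Set X).ncard ≤ 2 := (Set.ncard_insert_le _ _).trans (by rw [Set.ncard_singleton])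
      have h3 : (E : Set X).ncard = 2 ^ n := hc
      have h4 : 2 ^ 2 ≤ 2 ^ n := Nat.pow_le_pow_right (by norm_num) hn2
      omega
    have htwo : ∃ p q : T, p ≠ q ∧ p ≠ 1 ∧ p * p = 1 ∧ q ≠ 1 ∧ q * q = 1 :=
      ⟨⟨e1, hET he1⟩, ⟨e0, hET he0⟩, fun e => he10 (congrArg Subtype.val e),
        fun e => he11 (congrArg Subtype.val e), Subtype.ext (h.sq_eq_one he1),
        fun e => he01 (congrArg Subtype.val e), Subtype.ext (h.sq_eq_one he0)⟩
    have hnab : ∃ p q : T, p * q ≠ q * p :=
      ⟨⟨a0, ⟨a0, ha0, rfl⟩⟩, ⟨b0, ⟨b0, hb0, rfl⟩⟩, fun e => hab0 (Subtype.ext (congrArg (fun z : T => (z : X)) e))⟩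
    obtain ⟨F, _, _, _, ⟨co⟩⟩ := Solv.TwoAuto.exists_coord hinvc htwo K hKodd hKsol htrK
    have hzc := Solv.TwoAuto.center_sq h2T hnab K hinvc htrK (Solv.TwoAuto.noPair hinvc co) co.hg
      (Solv.TwoAuto.fixed_point_free h2T co)
    intro t ht
    exact h.mem_of_sq (congrArg Subtype.val
      (hzc _ (Solv.TwoAuto.sq_central' h2T hnab K hinvc hzc htrK co ⟨t, ht⟩)))
  -- the quotient by `E`
  let π : L →* L ⧸ EL := QuotientGroup.mk' EL
  have hπ : Function.Surjective π := QuotientGroup.mk'_surjective EL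
  have hπe : ∀ a b : L, π a = π b ↔ ((a : X)⁻¹ * b) ∈ E := fun a b => QuotientGroup.eq
  let Pb : Sylow 2 (L ⧸ EL) := T0.mapSurjective hπ
  have hPmem : ∀ v : (Pb : Subgroup (L ⧸ EL)), ∃ t ∈ (T0 : Subgroup L), π t = v := fun v => v.2
  have hperfb : commutator (L ⧸ EL) = ⊤ := by
    rw [commutator_def, ← Subgroup.map_top_of_surjective π hπ, ← Subgroup.map_commutator, ← commutator_def, hperf]
  have hel : ∀ u ∈ (Pb : Subgroup (L ⧸ EL)), u * u = 1 := by
    rintro u ⟨t, ht, rfl⟩
    rw [← map_mul]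
    exact (QuotientGroup.eq_one_iff _).2 (hsqT t ⟨t, ht, rfl⟩)
  have hcommb : ∀ u ∈ (Pb : Subgroup (L ⧸ EL)), ∀ v ∈ (Pb : Subgroup (L ⧸ EL)), u * v = v * u := by
    intro u hu v hv
    rw [← inv_eq_of_mul_eq_one_right (hel _ (mul_mem hu hv)), mul_inv_rev,
      inv_eq_of_mul_eq_one_right (hel u hu), inv_eq_of_mul_eq_one_right (hel v hv)]
  have hab : IsMulCommutative (Pb : Subgroup (L ⧸ EL)) := ⟨⟨fun a b => Subtype.ext (hcommb _ a.2 _ b.2)⟩⟩
  letI : CommGroup (Pb : Subgroup (L ⧸ EL)) :=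
    { (inferInstance : Group (Pb : Subgroup (L ⧸ EL))) with
      mul_comm := fun a b => Subtype.ext (hcommb _ a.2 _ b.2) }
  letI : CommGroup E :=
    { (inferInstance : Group E) with mul_comm := fun a b => Subtype.ext (h.comm _ a.2 _ b.2) }
  letI : Module (ZMod 2) (Additive E) := AddCommGroup.zmodModule fun z => by
    rw [two_nsmul]
    exact Subtype.ext (h.sq_eq_one z.toMul.2)
  haveI : Fintype (Additive (Pb : Subgroup (L ⧸ EL))) := Fintype.ofFinite _
  haveI : Fintype (Additive E) := Fintype.ofFinite _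
  choose s hs hsπ using hPmem
  have hsq : ∀ v, ((s v : L) : X) * s v ∈ E := fun v => hsqT _ ⟨s v, hs v, rfl⟩
  let Qm : ↥(Pb : Subgroup (L ⧸ EL)) → E := fun v => ⟨((s v : L) : X) * s v, hsq v⟩
  have key : ∀ (v : (Pb : Subgroup (L ⧸ EL))) (t : L), π t = v → (Qm v : X) = t * t := by
    intro v t ht
    have he := (hπe t (s v)).1 (ht.trans (hsπ v).symm)
    show ((s v : L) : X) * s v = t * t
    have e1 : ((s v : L) : X) = t * ((t : X)⁻¹ * s v) := (mul_inv_cancel_left _ _).symm
    rw [e1]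
    set e := (t : X)⁻¹ * s v
    calc (t : X) * e * (t * e) = t * (e * t) * e := by group
      _ = t * (t * e) * e := by rw [hcen t t.2 e he]
      _ = t * t * (e * e) := by group
      _ = t * t := by rw [h.sq_eq_one he, mul_one]
  let c : L → L → X := fun a b => (a : X)⁻¹ * b * a * (b : X)⁻¹
  have hcmem : ∀ a ∈ (T0 : Subgroup L), ∀ b ∈ (T0 : Subgroup L), c a b ∈ E := by
    intro a ha b hb
    have h1 : π (a⁻¹ * b * a * b⁻¹) = 1 := by
      rw [map_mul, map_mul, map_mul, map_inv, map_inv, mul_assoc (π a)⁻¹,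
        hcommb (π b) ⟨b, hb, rfl⟩ (π a) ⟨a, ha, rfl⟩]
      group
    exact Subgroup.mem_subgroupOf.1 ((QuotientGroup.eq_one_iff (a⁻¹ * b * a * b⁻¹)).1 h1)
  have hdiv : ∀ u v : (Pb : Subgroup (L ⧸ EL)), ∀ a ∈ (T0 : Subgroup L), ∀ b ∈ (T0 : Subgroup L),
      π a = u → π b = v → ((Qm (u * v) / Qm u / Qm v : E) : X) = c a b := by
    intro u v a ha b hb hau hbv
    have hce := hcmem a ha b hb
    have h1 : Qm (u * v) = Qm u * Qm v * ⟨c a b, hce⟩ := by
      refine Subtype.ext ?_
      rw [key (u * v) (a * b) (by rw [map_mul, hau, hbv]; rfl), Subgroup.coe_mul, Subgroup.coe_mul,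
        Subgroup.coe_mul, key u a hau, key v b hbv]
      show (a : X) * b * (a * b) = a * a * (b * b) * c a b
      calc (a : X) * b * (a * b) = a * a * c a b * (b * b) := by simp only [c]; group
        _ = a * a * (b * b) * c a b := by
          rw [mul_assoc, hcen _ (mul_mem b.2 b.2) _ hce]
          group
    rw [h1, div_div, mul_div_cancel_left]
  let Q : Additive (Pb : Subgroup (L ⧸ EL)) → Additive E := fun v => Additive.ofMul (Qm v.toMul)
  have hfmap : ∀ u v : E, u ≠ 1 → v ≠ 1 →
      (Finset.univ.filter fun w => Q w = Additive.ofMul u).card ≤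
        (Finset.univ.filter fun w => Q w = Additive.ofMul v).card := by
    intro u v hu hv
    obtain ⟨i, hi⟩ := htry u u.2 v v.2 (fun e => hu (Subtype.ext e)) (fun e => hv (Subtype.ext e))
    set z := y ^ i
    have hz : z ∈ Subgroup.normalizer (T : Set X) := pow_mem hyN i
    let cz : L → L := fun t => ⟨z * t * z⁻¹, hLn.conj_mem _ t.2 _⟩
    have hczT : ∀ t ∈ (T0 : Subgroup L), π (cz t) ∈ (Pb : Subgroup (L ⧸ EL)) := by
      intro t ht
      obtain ⟨t', ht', e⟩ := (Subgroup.mem_normalizer_iff.1 hz t).1 ⟨t, ht, rfl⟩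
      exact ⟨t', ht', congrArg π (Subtype.ext e)⟩
    let Φ : Additive (Pb : Subgroup (L ⧸ EL)) → Additive (Pb : Subgroup (L ⧸ EL)) := fun w =>
      Additive.ofMul ⟨π (cz (s w.toMul)), hczT _ (hs _)⟩
    refine Finset.card_le_card_of_injOn Φ (fun w hw => ?_) (fun w _ w' _ e => ?_)
    · have hw' := (Finset.mem_filter.1 (Finset.mem_coe.1 hw)).2
      refine Finset.mem_coe.2 (Finset.mem_filter.2 ⟨Finset.mem_univ _, ?_⟩)
      refine congrArg Additive.ofMul (Subtype.ext ((key _ (cz (s w.toMul)) rfl).trans ?_))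
      show z * (s w.toMul : L) * z⁻¹ * (z * (s w.toMul : L) * z⁻¹) = v
      rw [← hi, ← show (Qm w.toMul : X) = u from congrArg Subtype.val (Additive.ofMul.injective hw')]
      show _ = z * (((s w.toMul : L) : X) * s w.toMul) * z⁻¹
      group
    · have e' : π (cz (s w.toMul)) = π (cz (s w'.toMul)) :=
        congrArg (fun p : Additive (Pb : Subgroup (L ⧸ EL)) => ((Additive.toMul p : ↥(Pb : Subgroup (L ⧸ EL))) : L ⧸ EL)) e
      have h1 := h.conj_mem ((hπe _ _).1 e') z⁻¹
      have h2 : ((s w.toMul : L) : X)⁻¹ * (s w'.toMul : L) ∈ E := by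
        convert h1 using 1
        simp only [cz]
        group
      have h3 := (hπe _ _).2 h2
      rw [hsπ, hsπ] at h3
      exact Additive.toMul.injective (Subtype.ext h3)
  set k := (Finset.univ.filter fun w => Q w = Additive.ofMul (⟨e0, he0⟩ : E)).card with hk
  have A : Quad.Aniso Q k := by
    refine ⟨fun u u' v => ?_, fun v => ?_, fun e he => ?_⟩
    · refine congrArg Additive.ofMul (Subtype.ext ?_ :
        Qm (u.toMul * u'.toMul * v.toMul) / Qm (u.toMul * u'.toMul) / Qm v.toMul =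
          (Qm (u.toMul * v.toMul) / Qm u.toMul / Qm v.toMul) *
            (Qm (u'.toMul * v.toMul) / Qm u'.toMul / Qm v.toMul))
      have ha := hs u.toMul
      have hb := hs u'.toMul
      have hd := hs v.toMul
      rw [Subgroup.coe_mul,
        hdiv _ _ _ (mul_mem ha hb) _ hd (by rw [map_mul, hsπ, hsπ]; rfl) (hsπ _),
        hdiv _ _ _ ha _ hd (hsπ _) (hsπ _), hdiv _ _ _ hb _ hd (hsπ _) (hsπ _)]
      have hce := hcmem _ ha _ hd
      simp only [c, Subgroup.coe_mul]
      set a : X := ((s u.toMul : L) : X)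
      set b : X := ((s u'.toMul : L) : X)
      set d : X := ((s v.toMul : L) : X)
      calc (a * b)⁻¹ * d * (a * b) * d⁻¹ = b⁻¹ * (a⁻¹ * d * a * d⁻¹) * d * b * d⁻¹ := by group
        _ = (a⁻¹ * d * a * d⁻¹) * b⁻¹ * d * b * d⁻¹ := by
          rw [hcen b⁻¹ (inv_mem (s u'.toMul).2) _ hce]
        _ = _ := by group
    · constructor
      · intro hv
        have h1 : ((s v.toMul : L) : X) * s v.toMul = 1 := congrArg Subtype.val (Additive.ofMul.injective hv)
        refine Additive.toMul.injective (Subtype.ext ?_)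
        rw [← hsπ]
        exact (QuotientGroup.eq_one_iff _).2 (h.mem_of_sq h1)
      · rintro rfl
        refine congrArg Additive.ofMul (Subtype.ext ?_)
        rw [key (Additive.toMul 0) 1 (map_one π)]
        simp
    · have he' : e.toMul ≠ 1 := fun e' => he (Additive.toMul.injective e')
      have he0' : (⟨e0, he0⟩ : E) ≠ 1 := fun e' => he01 (congrArg Subtype.val e')
      exact le_antisymm (hfmap e.toMul _ he' he0') (hfmap _ e.toMul he0' he')
  obtain ⟨d, hd⟩ := IsPGroup.iff_card.1 Pb.isPGroup'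
  have hV : Fintype.card (Additive (Pb : Subgroup (L ⧸ EL))) = 2 ^ d := by
    rw [← Nat.card_eq_fintype_card, ← hd]
    exact Nat.card_congr Additive.toMul
  have hE : Fintype.card (Additive E) = 2 ^ n := by
    rw [← Nat.card_eq_fintype_card, ← hc]
    exact Nat.card_congr Additive.toMul
  have hd0 : 0 < d := by
    by_contra hd0
    rw [show d = 0 by omega, pow_zero] at hd
    haveI : Subsingleton (Pb : Subgroup (L ⧸ EL)) := (Nat.card_eq_one_iff_unique.1 hd).1
    refine hab0 (Subtype.ext ?_)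
    have h1 : (a0 : X) ∈ E := by
      have := congrArg Subtype.val (Subsingleton.elim (⟨π a0, a0, ha0, rfl⟩ : (Pb : Subgroup (L ⧸ EL))) 1)
      exact Subgroup.mem_subgroupOf.1 ((QuotientGroup.eq_one_iff (N := EL) a0).1 this)
    exact hcen b0 b0.2 a0 h1
  have hQconj : ∀ (g : L ⧸ EL) (v w : (Pb : Subgroup (L ⧸ EL))), g * v * g⁻¹ = w → Qm v = Qm w := by
    intro g v w hgw
    obtain ⟨l, rfl⟩ := hπ g
    refine Subtype.ext ?_
    rw [key w (l * s v * l⁻¹) (by rw [map_mul, map_mul, map_inv, hsπ, hgw]), Subgroup.coe_mul,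
      Subgroup.coe_mul, Subgroup.coe_inv]
    show ((s v : L) : X) * s v = _
    rw [show (l : X) * (s v : L) * (l : X)⁻¹ * ((l : X) * (s v : L) * (l : X)⁻¹) =
      (l : X) * (((s v : L) : X) * s v) * (l : X)⁻¹ by group, ← hcen l l.2 _ (hsq v), mul_inv_cancel_right]
  have h2 : 2 ∣ Nat.card (L ⧸ EL) :=
    ((dvd_pow_self 2 hd0.ne').trans hd.symm.dvd).trans (Subgroup.card_subgroup_dvd_card _)
  rcases Quad.dim_cases A hE (by omega) hV hd0 with ⟨-, hk1⟩ | ⟨hd2, hk2⟩
  · -- squaring is injective: the automizer is trivial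
    refine not_hnpc hperfb h2 (Fusion.hnpc_of_normalizer_le_centralizer Pb fun g hg => ?_)
    refine Subgroup.mem_centralizer_iff.2 fun u hu => ?_
    have hw : g * u * g⁻¹ ∈ (Pb : Subgroup (L ⧸ EL)) := (Subgroup.mem_normalizer_iff.1 hg u).1 hu
    have he := hQconj g ⟨u, hu⟩ ⟨_, hw⟩ rfl
    have heq : (⟨u, hu⟩ : (Pb : Subgroup (L ⧸ EL))) = ⟨_, hw⟩ := by
      by_cases h0 : Qm ⟨u, hu⟩ = 1
      · have h1 := (A.eq_zero (Additive.ofMul ⟨u, hu⟩)).1 (congrArg Additive.ofMul h0)
        have h1' := (A.eq_zero (Additive.ofMul ⟨_, hw⟩)).1 (congrArg Additive.ofMul (he ▸ h0))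
        exact Additive.ofMul.injective (h1.trans h1'.symm)
      · have hf := A.fibre (Additive.ofMul (Qm ⟨u, hu⟩)) (fun e => h0 (Additive.ofMul.injective e))
        rw [hk1] at hf
        exact Additive.ofMul.injective (Finset.card_le_one.1 hf.le _ (Finset.mem_filter.2 ⟨Finset.mem_univ _, rfl⟩) _
          (Finset.mem_filter.2 ⟨Finset.mem_univ _, congrArg Additive.ofMul he.symm⟩))
    have h4 : g * u * g⁻¹ = u := (congrArg Subtype.val heq).symm
    exact (mul_inv_eq_iff_eq_mul.1 h4).symm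
  · -- the automizer is free
    rw [hk2] at A
    rw [hd2] at hV hd
    have hfree : ∀ u : (Pb : Subgroup (L ⧸ EL)), u ≠ 1 → IsFree Pb u := by
      intro u hu α hα hfix
      obtain ⟨g, -, hgα⟩ := mem_autGrp.1 hα
      have hQα : ∀ v, Qm (α v) = Qm v := fun v => (hQconj g v (α v) (hgα v).symm).symm
      have hord : Odd (orderOf α) :=
        (odd_card_autGrp hab).of_dvd_nat (Subgroup.orderOf_dvd_natCard _ hα)
      let a : Additive (Pb : Subgroup (L ⧸ EL)) →+ Additive (Pb : Subgroup (L ⧸ EL)) :=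
        α.toMonoidHom.toAdditive
      let δ := a - AddMonoidHom.id _
      have h2v : ∀ v : Additive (Pb : Subgroup (L ⧸ EL)), v + v = 0 := fun v =>
        Additive.toMul.injective (Subtype.ext (hel _ v.toMul.2))
      have haker : ∀ f ∈ δ.ker, a f = f := fun f hf => sub_eq_zero.1 hf
      have hdis : ∀ v ∈ δ.ker, v ∈ δ.range → v = 0 := by
        rintro v hv ⟨w, rfl⟩
        have hstep : a w = w + δ w := by simp [δ]
        have hj : ∀ j : ℕ, Additive.ofMul ((α ^ j) w.toMul) = w + j • δ w := by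
          intro j
          induction j with
          | zero => simp
          | succ j ih =>
            rw [pow_succ', MulAut.mul_apply]
            show a (Additive.ofMul ((α ^ j) w.toMul)) = _
            rw [ih, map_add, map_nsmul, haker _ hv, hstep, succ_nsmul]
            abel
        obtain ⟨r, hr⟩ := hord
        have h1 := hj (orderOf α)
        rw [pow_orderOf_eq_one, MulAut.one_apply, hr, add_nsmul, one_nsmul, mul_comm 2 r, mul_nsmul',
          two_nsmul, h2v, smul_zero, zero_add] at h1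
        simpa using h1.symm
      have hcard : Nat.card δ.ker * Nat.card δ.range =
          Fintype.card (Additive (Pb : Subgroup (L ⧸ EL))) := by
        rw [← AddSubgroup.index_ker, AddSubgroup.card_mul_index, Nat.card_eq_fintype_card]
      have horth : ∀ f ∈ δ.ker, ∀ w ∈ δ.range, Q (f + w) = Q f + Q w := by
        rintro f hf w ⟨v, rfl⟩
        have hQa : ∀ z, Q (a z) = Q z := fun z => congrArg Additive.ofMul (hQα z.toMul)
        have hsub : ∀ z : Additive (Pb : Subgroup (L ⧸ EL)), -z = z := fun z =>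
          neg_eq_of_add_eq_zero_left (h2v z)
        have hE2 : ∀ z : Additive E, z + z = 0 := fun z =>
          Additive.toMul.injective (Subtype.ext (h.sq_eq_one z.toMul.2))
        have hdv : δ v = a v + v := by
          show a v - v = a v + v
          rw [sub_eq_add_neg, hsub]
        have hsym : ∀ p q, Q (p + q) - Q p - Q q = Q (q + p) - Q q - Q p := fun p q => by
          rw [add_comm p q]; abel
        have h1 := A.add_left (a v) v f
        rw [← hdv] at h1
        have h2 : Q (a v + f) - Q (a v) - Q f = Q (v + f) - Q v - Q f := by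
          conv_lhs => rw [← haker f hf, ← map_add, hQa, hQa, hQa]
        rw [h2, hE2] at h1
        rw [sub_sub, sub_eq_zero] at h1
        rw [add_comm f, h1, add_comm]
      rcases Quad.no_split A hE (by omega) hV δ.ker δ.range hdis hcard horth with hF | hW
      · have h1 : Additive.ofMul u ∈ δ.ker := by
          show a (Additive.ofMul u) - Additive.ofMul u = 0
          rw [sub_eq_zero]
          exact congrArg Additive.ofMul hfix
        rw [hF, AddSubgroup.mem_bot] at h1
        exact absurd (Additive.ofMul.injective h1) hu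
      · refine MulEquiv.ext fun v => ?_
        have h1 : δ (Additive.ofMul v) = 0 := by
          rw [← AddSubgroup.mem_bot, ← hW]
          exact ⟨_, rfl⟩
        exact Additive.ofMul.injective (sub_eq_zero.1 h1)
    have h8 : 8 ≤ Nat.card (Pb : Subgroup (L ⧸ EL)) := by
      rw [hd]
      calc 8 = 2 ^ 3 := by norm_num
        _ ≤ _ := Nat.pow_le_pow_right (by norm_num) (by omega)
    have hone : ∀ v : Additive (Pb : Subgroup (L ⧸ EL)), v ≠ 0 → orderOf (v.toMul : L ⧸ EL) = 2 :=
      fun v hv => orderOf_eq_prime (by rw [pow_two, hel _ v.toMul.2])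
        fun e => hv (Additive.toMul.injective (Subtype.ext e))
    have hfib : ∀ e : Additive E, e ≠ 0 → ∃ v, v ≠ 0 ∧ Q v = e := by
      intro e he
      have hne : (Finset.univ.filter fun v => Q v = e).Nonempty :=
        Finset.card_pos.1 (by rw [A.fibre e he]; omega)
      obtain ⟨v, hv⟩ := hne
      rw [Finset.mem_filter] at hv
      exact ⟨v, fun e' => he (by rw [← hv.2, e', (A.eq_zero _).2 rfl]), hv.2⟩
    have hall : ∀ e : Additive E, e ≠ 0 → e = Additive.ofMul (⟨e0, he0⟩ : E) := by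
      intro e he
      obtain ⟨v, hv, hQv⟩ := hfib e he
      obtain ⟨w, hw, hQw⟩ := hfib (Additive.ofMul (⟨e0, he0⟩ : E))
        (fun e' => he01 (congrArg Subtype.val (Additive.ofMul.injective e')))
      obtain ⟨g, hg⟩ := isConj_iff.1 (isConj_of_free hperfb hab hel h8 hfree (hone v hv) (hone w hw))
      rw [← hQv, ← hQw]
      exact congrArg Additive.ofMul (hQconj g _ _ hg)
    have h5 : Fintype.card (Additive E) ≤ 2 := by
      rw [← Finset.card_univ]
      refine (Finset.card_le_card (t := {0, Additive.ofMul (⟨e0, he0⟩ : E)}) fun e _ => ?_).trans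
        Finset.card_le_two
      by_cases he : e = 0
      · simp [he]
      · simp [hall e he]
    rw [hE] at h5
    have : 2 ^ 2 ≤ 2 ^ n := Nat.pow_le_pow_right (by norm_num) hn2
    omega

end Cfsg.Agent.Pyramidal
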