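import Cfsg.Agent.Lib.Pyramidal.NoGL.ThreeAbelian
import Cfsg.Agent.Lib.Pyramidal.NoGL.ThreeNonabelian

/-!
# No model with the full linear group in odd dimension at least three
-/

set_option autoImplicit false
set_option linter.style.haveILetI false

namespace Cfsg.Agent.Pyramidal

universe u

/-- Transport along a linear equivalence. -/
def Model.transport {X : Type u} [Group X] {V W : Type} [AddCommGroup V] [Module (ZMod 2) V]
    [AddCommGroup W] [Module (ZMod 2) W] (m : Model X V) (e : W ≃ₗ[ZMod 2] V) : Model X W where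
  ι w := m.ι (e w)
  ι_add v w := by rw [map_add, m.ι_add]
  ι_inj v w h := e.injective (m.ι_inj h)
  sq x := (m.sq x).trans ⟨fun ⟨v, hv⟩ => ⟨e.symm v, by rw [e.apply_symm_apply, hv]⟩,
    fun ⟨w, hw⟩ => ⟨e w, hw⟩⟩
  full A := by
    obtain ⟨x, hx⟩ := m.full ((e.symm.trans A).trans e)
    exact ⟨x, fun w => by rw [hx]; simp⟩

/-- The full linear group does not occur. -/
theorem noGL {X : Type u} [Group X] [Finite X] {V : Type} [AddCommGroup V] [Module (ZMod 2) V]
    [Finite V] {n : ℕ} (hn : Module.finrank (ZMod 2) V = n) (h3 : 3 ≤ n) (hodd : Odd n)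
    (m : Model X V) : False := by
  haveI : Fact (Nat.Prime 2) := ⟨Nat.prime_two⟩
  haveI : FiniteDimensional (ZMod 2) V := Module.Finite.of_finite
  obtain ⟨j, rfl⟩ := hodd
  obtain ⟨k, rfl⟩ : ∃ k, j = k + 1 := ⟨j - 1, by omega⟩
  let W := (Fin 3 → ZMod 2) × (Fin k → ZMod 2 × ZMod 2)
  have hW : Module.finrank (ZMod 2) W = Module.finrank (ZMod 2) V := by
    rw [hn]
    simp only [W, Module.finrank_prod, Module.finrank_pi_fintype, Module.finrank_self]
    simp
    ring
  let tW : W ≃ₗ[ZMod 2] W := tMap.prodCongr (LinearEquiv.refl _ _)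
  have htW1 : tW ≠ 1 := fun h => tMap_ne (LinearEquiv.ext fun v =>
    congrArg Prod.fst (LinearEquiv.congr_fun h (v, 0)))
  haveI : Nontrivial W := nontrivial_of_ne ((![1, 0, 0], 0) : W) 0 fun h => by
    have := congrFun (congrArg Prod.fst h) 0
    simp at this
  obtain ⟨Y, _, _, m₁, hK₁⟩ := exists_two_group_kernel W tW
    (fun w => Prod.ext (tMap_involutive w.1) rfl) htW1 _ X rfl
    (m.transport (LinearEquiv.ofFinrankEq W V hW))
  obtain ⟨Z, _, _, ⟨m₂⟩⟩ := exists_model_three k m₁ hK₁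
  obtain ⟨U, _, _, m₃, hK₃⟩ := exists_two_group_kernel V3 tMap tMap_involutive tMap_ne _ Z rfl m₂
  exact ker_not_comm m₃ hK₃ (ker_comm hK₃)

end Cfsg.Agent.Pyramidal
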