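import Cfsg.Agent.S4179
import Cfsg.Agent.Lib.Pyramidal.Central
import Cfsg.Agent.Lib.Pyramidal.NoGL

/-!
# Groups whose involutions form one class inside an elementary abelian normal subgroup
-/

set_option autoImplicit false
set_option linter.style.haveILetI false

namespace Cfsg.Agent.Pyramidal

/-- An element of prime order moving something is transitive on a set of that many points. -/
theorem iterate_transitive {α : Type*} [Finite α] (f : α → α) {p : ℕ} (hp : p.Prime)
    (hf : ∀ a, f^[p] a = a) (hcard : Nat.card α = p) {a : α} (ha : f a ≠ a) (b c : α) :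
    ∃ i : ℕ, f^[i] b = c := by
  classical
  have hper : Function.minimalPeriod f a = p := by
    have hd : Function.minimalPeriod f a ∣ p :=
      Function.IsPeriodicPt.minimalPeriod_dvd (hf a)
    exact (hp.eq_one_or_self_of_dvd _ hd).resolve_left fun h =>
      ha (Function.minimalPeriod_eq_one_iff_isFixedPt.1 h)
  have hinj : Function.Injective fun i : Fin p => f^[i] a := fun i j e =>
    Fin.ext (Function.iterate_injOn_Iio_minimalPeriod (by rw [hper]; exact i.2)
      (by rw [hper]; exact j.2) e)
  have hsur := (Nat.bijective_iff_injective_and_card _).2 ⟨hinj, by simp [hcard]⟩ |>.2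
  obtain ⟨i, hi⟩ := hsur b
  obtain ⟨j, hj⟩ := hsur c
  refine ⟨p - i + j, ?_⟩
  have hi' : f^[p - i] b = a := by
    rw [← hi, ← Function.iterate_add_apply, Nat.sub_add_cancel i.2.le, hf]
  rw [add_comm, Function.iterate_add_apply, hi']
  exact hj

/-- The symmetric group on three points is solvable. -/
theorem perm_three_solvable {α : Type*} [Fintype α] [DecidableEq α] (h : Fintype.card α = 3) :
    Group.IsSolvable (Equiv.Perm α) := by
  haveI : Nontrivial α := Fintype.one_lt_card_iff_nontrivial.1 (by omega)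
  have hA : Nat.card (alternatingGroup α) = 3 := by
    rw [nat_card_alternatingGroup, Nat.card_eq_fintype_card, h]; rfl
  haveI : Fact (Nat.Prime 3) := ⟨Nat.prime_three⟩
  haveI : IsCyclic (alternatingGroup α) := isCyclic_of_prime_card hA
  haveI : Group.IsSolvable (alternatingGroup α) :=
    Group.isSolvable_of_comm fun a b => IsMulCommutative.is_comm.comm a b
  exact Group.isSolvable_of_ker_le_range (alternatingGroup α).subtype Equiv.Perm.sign
    (by rw [Subgroup.range_subtype, alternatingGroup_eq_sign_ker])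

/-- The core case. -/
theorem solvable_core (X : Type) [Group X] [Finite X] (n : ℕ) (E : Subgroup X) (hn : n.Prime)
    (hp : (2 ^ n - 1).Prime) (h : InvolIn E) (hc : Nat.card E = 2 ^ n)
    (hO : Cfsg.oddCore X = ⊥)
    (htrans : ∀ u ∈ E, ∀ v ∈ E, u ≠ 1 → v ≠ 1 → ∃ x : X, x * u * x⁻¹ = v) :
    Group.IsSolvable X := by
  classical
  haveI := h.normal
  letI : CommGroup E :=
    { (inferInstance : Group E) with mul_comm := fun a b => Subtype.ext (h.comm a a.2 b b.2) }
  letI : Module (ZMod 2) (Additive E) := AddCommGroup.zmodModule fun a =>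
    Additive.toMul.injective (by
      show (Additive.toMul a : E) ^ 2 = 1
      exact Subtype.ext ((pow_two _).trans (h.sq_eq_one (Additive.toMul a).2)))
  haveI : Finite (Additive E) := inferInstanceAs (Finite E)
  haveI : FiniteDimensional (ZMod 2) (Additive E) := Module.Finite.of_finite
  haveI : Fact (Nat.Prime 2) := ⟨Nat.prime_two⟩
  have hrank : Module.finrank (ZMod 2) (Additive E) = n := by
    have h1 : Nat.card (Additive E) = 2 ^ n := hc
    rw [Module.natCard_eq_pow_finrank (K := ZMod 2), Nat.card_zmod] at h1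
    exact Nat.pow_right_injective le_rfl h1
  let ψ : X →* (Additive E ≃ₗ[ZMod 2] Additive E) :=
    { toFun := fun x => (MulEquiv.toAdditive (MulAut.conjNormal x : MulAut E)).toLinearEquiv
        fun c a => ZMod.map_smul _ c a
      map_one' := LinearEquiv.ext fun a => congrArg Additive.ofMul (by simp)
      map_mul' := fun x y => LinearEquiv.ext fun a => congrArg Additive.ofMul (by simp) }
  have hψ : ∀ x a, ((Additive.toMul (ψ x a) : E) : X) = x * (Additive.toMul a : E) * x⁻¹ :=
    fun x a => rfl
  have hne : ∀ a : Additive E, a ≠ 0 → ((Additive.toMul a : E) : X) ≠ 1 := fun a ha e =>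
    ha (Additive.toMul.injective (Subtype.ext e))
  have htr : ∀ v w : Additive E, v ≠ 0 → w ≠ 0 → ∃ g ∈ ψ.range, g v = w := fun v w hv hw => by
    obtain ⟨x, hx⟩ := htrans _ (Additive.toMul v).2 _ (Additive.toMul w).2 (hne v hv) (hne w hw)
    exact ⟨ψ x, ⟨x, rfl⟩, Additive.toMul.injective (Subtype.ext ((hψ x v).trans hx))⟩
  -- an element of order `2 ^ n - 1`
  haveI : Fact (2 ^ n - 1).Prime := ⟨hp⟩
  have hS : Nat.card {v : Additive E // v ≠ 0} = 2 ^ n - 1 := by
    haveI : Fintype (Additive E) := Fintype.ofFinite _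
    rw [Nat.card_eq_fintype_card, Fintype.card_subtype_compl, Fintype.card_subtype_eq,
      ← Nat.card_eq_fintype_card, show Nat.card (Additive E) = 2 ^ n from hc]
  have hdvd : 2 ^ n - 1 ∣ Nat.card ψ.range := by
    obtain ⟨⟨v₀, hv₀⟩⟩ : Nonempty {v : Additive E // v ≠ 0} :=
      (Nat.card_pos_iff.1 (hS ▸ hp.pos)).1
    have horb : MulAction.orbit ψ.range v₀ = {v | v ≠ 0} := Set.ext fun v => ⟨
      fun ⟨g, hg⟩ => hg ▸ fun e => hv₀ ((g.1.map_eq_zero_iff).1 e),
      fun hv => by
        obtain ⟨g, hg, e⟩ := htr v₀ v hv₀ hv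
        exact ⟨⟨g, hg⟩, e⟩⟩
    have h1 := Nat.card_congr (MulAction.orbitProdStabilizerEquivGroup ψ.range v₀)
    rw [Nat.card_prod, horb] at h1
    exact Dvd.intro _ ((congrArg (· * _) hS.symm).trans h1)
  obtain ⟨⟨g, hg⟩, hgo⟩ := exists_prime_orderOf_dvd_card' (2 ^ n - 1) hdvd
  rw [Subgroup.orderOf_mk] at hgo
  obtain ⟨x, rfl⟩ := hg
  have hxtr : ∀ u ∈ E, ∀ v ∈ E, u ≠ 1 → v ≠ 1 → ∃ i : ℕ, x ^ i * u * (x ^ i)⁻¹ = v := by
    intro u hu v hv hu1 hv1
    let f : {a : Additive E // a ≠ 0} → {a : Additive E // a ≠ 0} := fun a =>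
      ⟨ψ x a.1, fun e => a.2 ((ψ x).map_eq_zero_iff.1 e)⟩
    have hit : ∀ i a, (f^[i] a).1 = (ψ x ^ i) a.1 := by
      intro i
      induction i with
      | zero => intro a; simp
      | succ i ih => intro a; rw [Function.iterate_succ_apply, ih, pow_succ]; rfl
    obtain ⟨a, ha⟩ : ∃ a, f a ≠ a := by
      by_contra hno
      push Not at hno
      have h1 : ψ x = 1 := LinearEquiv.ext fun a => by
        by_cases ha : a = 0
        · simp [ha]
        · exact congrArg Subtype.val (hno ⟨a, ha⟩)
      rw [h1, orderOf_one] at hgo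
      exact hp.ne_one hgo.symm
    obtain ⟨i, hi⟩ := iterate_transitive f hp (fun a => Subtype.ext (by
      rw [hit, ← hgo, pow_orderOf_eq_one]; rfl)) hS ha
      ⟨Additive.ofMul ⟨u, hu⟩, fun e => hu1 (congrArg (fun z => ((Additive.toMul z : E) : X)) e)⟩
      ⟨Additive.ofMul ⟨v, hv⟩, fun e => hv1 (congrArg (fun z => ((Additive.toMul z : E) : X)) e)⟩
    refine ⟨i, ?_⟩
    have e := congrArg (fun z => ((Additive.toMul z : E) : X)) ((hit i _).symm.trans
      (congrArg Subtype.val hi))
    simp only [← map_pow] at e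
    exact (hψ _ _).symm.trans e
  haveI hC := centralizer_solvable hn h hc hO x hxtr
  have hker : ψ.ker = Subgroup.centralizer (E : Set X) := Subgroup.ext fun y => by
    rw [MonoidHom.mem_ker, Subgroup.mem_centralizer_iff]
    refine ⟨fun e u hu => ?_, fun e => LinearEquiv.ext fun a => ?_⟩
    · have h1 := hψ y (Additive.ofMul ⟨u, hu⟩)
      rw [e] at h1
      exact eq_mul_inv_iff_mul_eq.1 h1
    · refine Additive.toMul.injective (Subtype.ext ((hψ y a).trans ?_))
      rw [← e _ (Additive.toMul a).2, mul_inv_cancel_right]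
      rfl
  suffices hR : Group.IsSolvable ψ.range from
    Group.isSolvable_of_ker_le_range (Subgroup.centralizer (E : Set X)).subtype ψ.rangeRestrict
      (by rw [MonoidHom.ker_rangeRestrict, hker, Subgroup.range_subtype])
  rcases (S4179.result n hrank hp ψ.range).1 htr with ⟨hcy, -⟩ | ⟨hcard, C, hCle, hCn, hCy, hCc⟩ |
    htop
  · exact Group.isSolvable_of_comm fun a b => IsMulCommutative.is_comm.comm a b
  · set D := C.subgroupOf ψ.range
    have hD : Nat.card D = 2 ^ n - 1 := by
      rw [Nat.card_congr (Subgroup.subgroupOfEquivOfLe hCle).toEquiv, hCc]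
    haveI : IsCyclic D := isCyclic_of_prime_card hD
    haveI : Group.IsSolvable D :=
      Group.isSolvable_of_comm fun a b => IsMulCommutative.is_comm.comm a b
    have hq : Nat.card (ψ.range ⧸ D) = n := by
      have h1 := Subgroup.card_eq_card_quotient_mul_card_subgroup D
      rw [hcard, hD] at h1
      exact (Nat.eq_of_mul_eq_mul_right hp.pos h1).symm
    haveI : Fact n.Prime := ⟨hn⟩
    haveI : IsCyclic (ψ.range ⧸ D) := isCyclic_of_prime_card hq
    haveI : Group.IsSolvable (ψ.range ⧸ D) :=
      Group.isSolvable_of_comm fun a b => IsMulCommutative.is_comm.comm a b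
    exact Group.isSolvable_of_ker_le_range D.subtype (QuotientGroup.mk' D)
      (by rw [Subgroup.range_subtype, QuotientGroup.ker_mk'])
  · rcases hn.eq_two_or_odd' with h2 | hodd
    · haveI : Fintype {v : Additive E // v ≠ 0} := Fintype.ofFinite _
      haveI := perm_three_solvable (α := {v : Additive E // v ≠ 0})
        (by rw [← Nat.card_eq_fintype_card, hS, h2]; norm_num)
      let π : ψ.range →* Equiv.Perm {v : Additive E // v ≠ 0} :=
        { toFun := fun g => g.1.toEquiv.subtypeEquiv fun a => (g.1.map_eq_zero_iff).not.symm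
          map_one' := Equiv.ext fun a => Subtype.ext rfl
          map_mul' := fun g g' => Equiv.ext fun a => Subtype.ext rfl }
      refine Group.isSolvable_of_isSolvable_injective (f := π) fun g g' e => Subtype.ext ?_
      refine LinearEquiv.ext fun a => ?_
      by_cases ha : a = 0
      · simp [ha]
      · exact congrArg Subtype.val (Equiv.congr_fun e ⟨a, ha⟩)
    · exfalso
      refine noGL hrank ?_ hodd (X := X)
        { ι := fun a => ((Additive.toMul a : E) : X)
          ι_add := fun _ _ => rfl
          ι_inj := fun a b e => Additive.toMul.injective (Subtype.ext e)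
          sq := fun y => (h.invol y).trans ⟨fun hy => ⟨Additive.ofMul ⟨y, hy⟩, rfl⟩,
            fun ⟨a, ha⟩ => ha ▸ (Additive.toMul a).2⟩
          full := fun A => by
            obtain ⟨y, rfl⟩ : A ∈ ψ.range := htop ▸ Subgroup.mem_top A
            exact ⟨y, fun a => (hψ y a).symm⟩ }
      obtain ⟨j, rfl⟩ := hodd
      have := hn.two_le
      omega

end Cfsg.Agent.Pyramidal
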