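import Mathlib

/-!
# A non-solvable group with `p ^ k` involutions, `k` even

The group is `F² ⋊ SL₂(F)` with `|F| = p ^ (k / 2)`.
-/

set_option autoImplicit false
set_option linter.style.haveILetI false

open Matrix

namespace Cfsg.Agent.Pyramidal.Example

variable (F : Type) [Field F]

local notation "SL2" => Matrix.SpecialLinearGroup (Fin 2) F
local notation "V2" => Multiplicative (Fin 2 → F)

/-- The natural action on the column space. -/
def natAct : SL2 →* MulAut V2 where
  toFun g := AddEquiv.toMultiplicative (Matrix.SpecialLinearGroup.toLin' g).toAddEquiv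
  map_one' := MulEquiv.ext fun v => by
    show Multiplicative.ofAdd (Matrix.SpecialLinearGroup.toLin' (1 : SL2) v.toAdd) = v
    rw [map_one]; rfl
  map_mul' g h := MulEquiv.ext fun v => by
    show Multiplicative.ofAdd (Matrix.SpecialLinearGroup.toLin' (g * h) v.toAdd) = _
    rw [map_mul]; rfl

theorem natAct_neg_one (v : V2) : natAct F (-1) v = v⁻¹ := by
  show Multiplicative.ofAdd (Matrix.SpecialLinearGroup.toLin' (-1 : SL2) v.toAdd) = v⁻¹
  rw [Matrix.SpecialLinearGroup.toLin'_apply, Matrix.toLin'_apply,
    Matrix.SpecialLinearGroup.coe_neg, Matrix.SpecialLinearGroup.coe_one, Matrix.neg_mulVec,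
    Matrix.one_mulVec]
  rfl

/-- The group. -/
abbrev Grp : Type := V2 ⋊[natAct F] SL2

theorem finite_grp [Finite F] : Finite (Grp F) :=
  Finite.of_equiv _ SemidirectProduct.equivProd.symm

theorem eq_pm_one (h2 : (2 : F) ≠ 0) {g : SL2} (h : g * g = 1) : g = 1 ∨ g = -1 := by
  have hi : g⁻¹ = g := inv_eq_of_mul_eq_one_right h
  have e00 : (g : Matrix (Fin 2) (Fin 2) F) 1 1 = g 0 0 := by
    have := congrArg (fun x : SL2 => (x : Matrix (Fin 2) (Fin 2) F) 0 0) hi
    simpa [Matrix.SpecialLinearGroup.coe_inv, Matrix.adjugate_fin_two] using this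
  have e01 : (g : Matrix (Fin 2) (Fin 2) F) 0 1 = 0 := by
    have := congrArg (fun x : SL2 => (x : Matrix (Fin 2) (Fin 2) F) 0 1) hi
    simp [Matrix.SpecialLinearGroup.coe_inv, Matrix.adjugate_fin_two] at this
    exact (mul_eq_zero.1 (show (2 : F) * g 0 1 = 0 by linear_combination -this)).resolve_left h2
  have e10 : (g : Matrix (Fin 2) (Fin 2) F) 1 0 = 0 := by
    have := congrArg (fun x : SL2 => (x : Matrix (Fin 2) (Fin 2) F) 1 0) hi
    simp [Matrix.SpecialLinearGroup.coe_inv, Matrix.adjugate_fin_two] at this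
    exact (mul_eq_zero.1 (show (2 : F) * g 1 0 = 0 by linear_combination -this)).resolve_left h2
  have hd := g.2
  rw [Matrix.det_fin_two, e01, e10, e00, mul_zero, sub_zero] at hd
  rcases mul_self_eq_one_iff.1 hd with hc | hc
  · left
    ext i j
    fin_cases i <;> fin_cases j <;> simp [hc, e00, e01, e10]
  · right
    ext i j
    fin_cases i <;> fin_cases j <;> simp [hc, e00, e01, e10]

theorem neg_one_ne (h2 : (2 : F) ≠ 0) : (-1 : SL2) ≠ 1 := by
  intro h
  have := congrArg (fun x : SL2 => (x : Matrix (Fin 2) (Fin 2) F) 0 0) h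
  simp at this
  exact h2 (by linear_combination -this)

theorem orderOf_eq_two_iff (h2 : (2 : F) ≠ 0) (x : Grp F) : orderOf x = 2 ↔ x.right = -1 := by
  constructor
  · intro hx
    have hxx : x * x = 1 := by
      have h := pow_orderOf_eq_one x
      rw [hx, sq] at h
      exact h
    have hg : x.right * x.right = 1 := congrArg SemidirectProduct.right hxx
    refine (eq_pm_one F h2 hg).resolve_left fun h1 => ?_
    have hv : x.left * x.left = 1 := by
      have := congrArg SemidirectProduct.left hxx
      rw [SemidirectProduct.mul_left, h1, map_one, MulAut.one_apply] at this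
      exact this
    have hv0 : x.left = 1 := by
      apply Multiplicative.toAdd.injective
      funext i
      have : x.left.toAdd i + x.left.toAdd i = 0 :=
        congrFun (congrArg Multiplicative.toAdd hv) i
      exact (mul_eq_zero.1 (show (2 : F) * x.left.toAdd i = 0 by linear_combination this)).resolve_left h2
    have : x = 1 := SemidirectProduct.ext hv0 h1
    rw [this, orderOf_one] at hx
    omega
  · intro hx
    refine orderOf_eq_prime ?_ ?_
    · rw [sq]
      refine SemidirectProduct.ext ?_ ?_
      · rw [SemidirectProduct.mul_left, hx, natAct_neg_one F, mul_inv_cancel,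
          SemidirectProduct.one_left]
      · rw [SemidirectProduct.mul_right, hx, SemidirectProduct.one_right]
        exact neg_mul_neg _ _ |>.trans (one_mul _)
    · intro h
      exact neg_one_ne F h2 (hx.symm.trans (congrArg SemidirectProduct.right h))

theorem card_involutions [Finite F] (h2 : (2 : F) ≠ 0) :
    Nat.card {x : Grp F // orderOf x = 2} = Nat.card F ^ 2 := by
  let f : {x : Grp F // orderOf x = 2} ≃ V2 :=
    { toFun := fun x => x.1.left
      invFun := fun v => ⟨⟨v, -1⟩, (orderOf_eq_two_iff F h2 _).2 rfl⟩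
      left_inv := fun x => Subtype.ext
        (SemidirectProduct.ext rfl ((orderOf_eq_two_iff F h2 x.1).1 x.2).symm)
      right_inv := fun v => rfl }
  rw [Nat.card_congr f, Nat.card_congr Multiplicative.toAdd, Nat.card_fun, Nat.card_eq_fintype_card (α := Fin 2),
    Fintype.card_fin]

theorem conj_involutions (h2 : (2 : F) ≠ 0) {x y : Grp F} (hx : orderOf x = 2)
    (hy : orderOf y = 2) : ∃ g : Grp F, g * x * g⁻¹ = y := by
  have hxr := (orderOf_eq_two_iff F h2 x).1 hx
  have hyr := (orderOf_eq_two_iff F h2 y).1 hy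
  let w : V2 := Multiplicative.ofAdd ((2 : F)⁻¹ • (y.left.toAdd - x.left.toAdd))
  refine ⟨SemidirectProduct.inl w, ?_⟩
  rw [mul_inv_eq_iff_eq_mul]
  refine SemidirectProduct.ext ?_ ?_
  · simp only [SemidirectProduct.mul_left, SemidirectProduct.left_inl, SemidirectProduct.right_inl,
      map_one, MulAut.one_apply, hyr, natAct_neg_one F]
    apply Multiplicative.toAdd.injective
    funext i
    simp [w]
    field_simp
    ring
  · simp [hxr, hyr]

theorem not_solvable [Finite F] (h4 : 4 ≤ Nat.card F) : ¬ Group.IsSolvable (Grp F) := by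
  intro h
  haveI := h
  haveI : Group.IsSolvable SL2 := Group.isSolvable_of_surjective
    (f := (SemidirectProduct.rightHom : Grp F →* SL2)) SemidirectProduct.rightHom_surjective
  classical
  haveI : Fintype F := Fintype.ofFinite F
  obtain ⟨a, -, ha⟩ : ∃ a, a ∈ (Finset.univ : Finset F) ∧ a ∉ ({0, 1, -1} : Finset F) := by
    refine Finset.exists_mem_notMem_of_card_lt_card ?_
    rw [Finset.card_univ, ← Nat.card_eq_fintype_card]
    have := Finset.card_le_three (a := (0 : F)) (b := 1) (c := -1)
    omega
  simp only [Finset.mem_insert, Finset.mem_singleton, not_or] at ha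
  have htop : commutator SL2 = ⊤ := Matrix.SL2.commutator_eq_top ha.1
    (fun h => (sq_eq_one_iff.1 h).elim ha.2.1 ha.2.2)
  haveI : Nontrivial SL2 := by
    refine ⟨⟨⟨!![1, 1; 0, 1], by simp [Matrix.det_fin_two]⟩, 1, fun he => ?_⟩⟩
    have := congrArg (fun M : SL2 => (M : Matrix (Fin 2) (Fin 2) F) 0 1) he
    simp at this
  exact (Group.IsSolvable.commutator_lt_top_of_nontrivial SL2).ne htop

end Cfsg.Agent.Pyramidal.Example

namespace Cfsg.Agent.Pyramidal

theorem exists_nonsolvable {p k : ℕ} (hp : p.Prime) (hp2 : p ≠ 2) (hk : 1 ≤ k) (hev : Even k)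
    (h9 : p ^ k ≠ 9) :
    ∃ (G : Type) (_ : Group G) (_ : Finite G), Nat.card {x : G // orderOf x = 2} = p ^ k ∧
      (∀ x y : G, orderOf x = 2 → orderOf y = 2 → ∃ g : G, g * x * g⁻¹ = y) ∧
      ¬ Group.IsSolvable G := by
  obtain ⟨f, rfl⟩ := hev
  have hf : f ≠ 0 := by omega
  haveI := Fact.mk hp
  haveI : Finite (GaloisField p f) := inferInstance
  have hcard : Nat.card (GaloisField p f) = p ^ f := GaloisField.card p f hf
  have h2 : (2 : GaloisField p f) ≠ 0 := by
    intro h
    have h' : ((2 : ℕ) : GaloisField p f) = 0 := by exact_mod_cast h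
    rw [CharP.cast_eq_zero_iff (GaloisField p f) p] at h'
    exact hp2 ((Nat.prime_dvd_prime_iff_eq hp Nat.prime_two).1 h')
  refine ⟨Example.Grp (GaloisField p f), inferInstance, Example.finite_grp _, ?_,
    fun x y hx hy => Example.conj_involutions _ h2 hx hy, Example.not_solvable _ ?_⟩
  · rw [Example.card_involutions _ h2, hcard, ← pow_mul, mul_two]
  · rw [hcard]
    have h3 : 3 ≤ p := by
      have := hp.two_le
      omega
    have hpf : p ≤ p ^ f := Nat.le_self_pow hf p
    by_contra hlt
    have hp3 : p = 3 := by omega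
    subst hp3
    have : f = 1 := by
      have h : 3 ^ f = 3 ^ 1 := by omega
      exact Nat.pow_right_injective (by norm_num) h
    subst this
    exact h9 (by norm_num)

end Cfsg.Agent.Pyramidal
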