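import Cfsg.Agent.S4296
import Cfsg.Agent.S0205
import Cfsg.Agent.Lib.Lie.ConstrainedRank.Classify

/-!
# Elements inverted by a central involution of an operator group

`A` acts on a group `K` of odd order, `t` is central in `A` and `a * b = t * (b * a)`. Then the
number of elements inverted by `t` is a square; it is not `9` unless `A` is solvable.
-/

set_option autoImplicit false
set_option linter.style.haveILetI false

namespace Cfsg.Agent.Pyramidal

open scoped commutatorElement

universe u v

variable {A : Type u} [Group A] {K : Type v} [Group K]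

/-- The elements inverted by `t`. -/
def invSet (ρ : A →* MulAut K) (t : A) : Set K := {x | ρ t x = x⁻¹}

theorem mem_invSet {ρ : A →* MulAut K} {t : A} {x : K} : x ∈ invSet ρ t ↔ ρ t x = x⁻¹ := Iff.rfl

/-- Restriction of an action to an invariant subgroup. -/
def restrictAct (ρ : A →* MulAut K) (N : Subgroup K) (h : ∀ g, ∀ x ∈ N, ρ g x ∈ N) :
    A →* MulAut N where
  toFun g :=
    { toFun := fun x => ⟨ρ g x, h g x x.2⟩
      invFun := fun x => ⟨ρ g⁻¹ x, h g⁻¹ x x.2⟩
      left_inv := fun x => Subtype.ext (by simp)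
      right_inv := fun x => Subtype.ext (by simp)
      map_mul' := fun x y => Subtype.ext (map_mul (ρ g) (x : K) y) }
  map_one' := MulEquiv.ext fun x => Subtype.ext (by simp)
  map_mul' g g' := MulEquiv.ext fun x => Subtype.ext (by simp)

/-- The action on an invariant quotient. -/
def quotAct (ρ : A →* MulAut K) (N : Subgroup K) [N.Normal] (h : ∀ g, ∀ x ∈ N, ρ g x ∈ N) :
    A →* MulAut (K ⧸ N) where
  toFun g := QuotientGroup.congr N N (ρ g) (by
    refine le_antisymm ?_ fun x hx => ⟨ρ g⁻¹ x, h _ x hx, by simp⟩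
    rintro _ ⟨x, hx, rfl⟩
    exact h g x hx)
  map_one' := MulEquiv.ext fun x => by
    induction x using QuotientGroup.induction_on with
    | _ x => simp
  map_mul' g g' := MulEquiv.ext fun x => by
    induction x using QuotientGroup.induction_on with
    | _ x => simp

theorem quotAct_mk (ρ : A →* MulAut K) (N : Subgroup K) [N.Normal]
    (h : ∀ g, ∀ x ∈ N, ρ g x ∈ N) (g : A) (x : K) :
    quotAct ρ N h g (QuotientGroup.mk x) = QuotientGroup.mk (ρ g x) := rfl

/-- A square root inside the cyclic group, for an element of odd order. -/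
theorem exists_root [Finite K] (hodd : Odd (Nat.card K)) {x : K} :
    ∃ m : ℕ, (x ^ m) * (x ^ m) = x := by
  obtain ⟨e, he⟩ := hodd.of_dvd_nat (orderOf_dvd_natCard x)
  refine ⟨e + 1, ?_⟩
  rw [← pow_add, show e + 1 + (e + 1) = 2 * e + 1 + 1 by ring, pow_succ, ← he, pow_orderOf_eq_one,
    one_mul]

theorem exists_twist [Finite K] (hodd : Odd (Nat.card K)) {ρ : A →* MulAut K} {t : A} {x : K}
    (hx : ρ t x = x⁻¹) : ∃ y : K, y⁻¹ * ρ t y = x := by
  obtain ⟨m, hm⟩ := exists_root hodd (x := x)
  refine ⟨(x ^ m)⁻¹, ?_⟩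
  rw [inv_inv, map_inv, map_pow, hx, inv_pow, inv_inv, hm]

theorem twist_mem {ρ : A →* MulAut K} {t : A} (ht : t * t = 1) (y : K) :
    ρ t (y⁻¹ * ρ t y) = (y⁻¹ * ρ t y)⁻¹ := by
  have h : ρ t (ρ t y) = y := by rw [← MulAut.mul_apply, ← map_mul, ht, map_one, MulAut.one_apply]
  rw [map_mul, map_inv, h, mul_inv_rev, inv_inv]

theorem card_invSet_eq_mul [Finite K] (hodd : Odd (Nat.card K)) (ρ : A →* MulAut K) {t : A}
    (ht : t * t = 1) (N : Subgroup K) [N.Normal] (h : ∀ g, ∀ x ∈ N, ρ g x ∈ N) :
    Nat.card (invSet ρ t) =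
      Nat.card (invSet (restrictAct ρ N h) t) * Nat.card (invSet (quotAct ρ N h) t) := by
  classical
  haveI : Fintype K := Fintype.ofFinite K
  let π : invSet ρ t → invSet (quotAct ρ N h) t := fun x => ⟨QuotientGroup.mk (x : K), by
    rw [mem_invSet, quotAct_mk, mem_invSet.1 x.2]; rfl⟩
  haveI : Fintype (invSet (quotAct ρ N h) t) := Fintype.ofFinite _
  have hq : Odd (Nat.card (K ⧸ N)) := hodd.of_dvd_nat (Subgroup.index_dvd_card N)
  have hfib : ∀ q, Nat.card {x // π x = q} = Nat.card (invSet (restrictAct ρ N h) t) := by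
    intro q
    obtain ⟨qy, hqy⟩ := exists_twist hq (mem_invSet.1 q.2)
    obtain ⟨y, rfl⟩ := QuotientGroup.mk_surjective qy
    rw [quotAct_mk] at hqy
    have hqy' : ((y⁻¹ * ρ t y : K) : K ⧸ N) = (q : K ⧸ N) := hqy
    let f : invSet (restrictAct ρ N h) t → {x // π x = q} := fun z =>
      ⟨⟨y⁻¹ * ((z : N) : K) * ρ t y, by
        have hz : ρ t ((z : N) : K) = ((z : N) : K)⁻¹ := congrArg Subtype.val (mem_invSet.1 z.2)
        have h2 : ρ t (ρ t y) = y := by
          rw [← MulAut.mul_apply, ← map_mul, ht, map_one, MulAut.one_apply]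
        rw [mem_invSet, map_mul, map_mul, map_inv, hz, h2]
        group⟩, Subtype.ext (by
        show ((y⁻¹ * ((z : N) : K) * ρ t y : K) : K ⧸ N) = (q : K ⧸ N)
        rw [← hqy', QuotientGroup.mk_mul, QuotientGroup.mk_mul, QuotientGroup.mk_mul,
          (QuotientGroup.eq_one_iff _).2 (z : N).2, mul_one])⟩
    refine (Nat.card_congr (Equiv.ofBijective f ⟨?_, ?_⟩)).symm
    · intro z z' hzz
      have := congrArg (fun x : {x // π x = q} => ((x : invSet ρ t) : K)) hzz
      exact Subtype.ext (Subtype.ext (mul_left_cancel (mul_right_cancel this)))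
    · rintro ⟨⟨i, hi⟩, hiq⟩
      have hiq' : ((i : K) : K ⧸ N) = ((y⁻¹ * ρ t y : K) : K ⧸ N) :=
        (congrArg Subtype.val hiq).trans hqy'.symm
      have hn : y * i * (ρ t y)⁻¹ ∈ N := by
        rw [← QuotientGroup.eq_one_iff, QuotientGroup.mk_mul, QuotientGroup.mk_mul, hiq',
          QuotientGroup.mk_mul]
        simp
      refine ⟨⟨⟨_, hn⟩, Subtype.ext ?_⟩, Subtype.ext (Subtype.ext ?_)⟩
      · show ρ t (y * i * (ρ t y)⁻¹) = (y * i * (ρ t y)⁻¹)⁻¹
        have h2 : ρ t (ρ t y) = y := by
          rw [← MulAut.mul_apply, ← map_mul, ht, map_one, MulAut.one_apply]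
        rw [map_mul, map_mul, map_inv, mem_invSet.1 hi, h2]
        group
      · show y⁻¹ * (y * i * (ρ t y)⁻¹) * ρ t y = i
        group
  rw [← Nat.card_congr (Equiv.sigmaFiberEquiv π), Nat.card_sigma,
    Finset.sum_congr rfl (fun q _ => hfib q), Finset.sum_const, Finset.card_univ, smul_eq_mul,
    mul_comm, Nat.card_eq_fintype_card (α := invSet (quotAct ρ N h) t)]

theorem auto_card_le {W : Type v} [Group W] [Finite W] {r : ℕ} (hr : r.Prime)
    (hW : Nat.card W = r ^ 2) (hexp : ∀ x : W, x ^ r = 1) :
    Nat.card (MulAut W) ≤ (r ^ 2 - 1) * (r ^ 2 - r) := by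
  classical
  haveI := Fact.mk hr
  haveI : Nontrivial W := Finite.one_lt_card_iff_nontrivial.1 (by
    rw [hW]; exact Nat.one_lt_pow two_ne_zero hr.one_lt)
  obtain ⟨x, hx⟩ := exists_ne (1 : W)
  have hox : ∀ u : W, u ≠ 1 → Nat.card (Subgroup.zpowers u) = r := fun u hu => by
    rw [Nat.card_zpowers]
    exact orderOf_eq_prime (hexp u) hu
  obtain ⟨y, hy⟩ : ∃ y, y ∉ Subgroup.zpowers x := by
    by_contra hc
    push Not at hc
    have h1 : Nat.card (Subgroup.zpowers x) = Nat.card W := by
      rw [(Subgroup.eq_top_iff' _).2 hc, Subgroup.card_top]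
    rw [hox x hx, hW] at h1
    have : r ^ 1 = r ^ 2 := by simpa using h1
    exact absurd (Nat.pow_right_injective hr.two_le this) (by norm_num)
  have hcl : ∀ u v : W, u ≠ 1 → v ∉ Subgroup.zpowers u → Subgroup.closure ({u, v} : Set W) = ⊤ := by
    intro u v hu hv
    refine Subgroup.eq_top_of_card_eq _ ?_
    have h1 : Nat.card (Subgroup.closure ({u, v} : Set W)) ∣ r ^ 2 :=
      hW ▸ Subgroup.card_subgroup_dvd_card _
    obtain ⟨j, hj, hjc⟩ := (Nat.dvd_prime_pow hr).1 h1
    have hle : Subgroup.zpowers u ≤ Subgroup.closure ({u, v} : Set W) :=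
      Subgroup.zpowers_le.2 (Subgroup.subset_closure (by simp))
    rcases Nat.lt_or_ge j 2 with hj2 | hj2
    · refine absurd ?_ hv
      rw [Subgroup.eq_of_le_of_card_ge hle (by
        rw [hjc, hox u hu]
        calc r ^ j ≤ r ^ 1 := Nat.pow_le_pow_right hr.pos (by omega)
          _ = r := pow_one r)]
      exact Subgroup.subset_closure (by simp)
    · rw [hjc, hW, le_antisymm hj hj2]
  let T : Type v := Σ u : {u : W // u ≠ 1}, {v : W // v ∉ Subgroup.zpowers (u : W)}
  haveI : Fintype {u : W // u ≠ 1} := Fintype.ofFinite _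
  let F : MulAut W → T := fun f => ⟨⟨f x, fun h => hx (f.injective (h.trans (map_one f).symm))⟩,
    ⟨f y, fun h => hy (by
      obtain ⟨i, hi⟩ := Subgroup.mem_zpowers_iff.1 h
      exact Subgroup.mem_zpowers_iff.2 ⟨i, f.injective (by rw [map_zpow]; exact hi)⟩)⟩⟩
  have hinj : Function.Injective F := by
    intro f g hfg
    have e1 : f x = g x := congrArg (fun s : T => (s.1 : W)) hfg
    have e2 : f y = g y := congrArg (fun s : T => (s.2 : W)) hfg
    refine MulEquiv.ext fun w => ?_
    have := MonoidHom.eqOn_closure (f := f.toMonoidHom) (g := g.toMonoidHom) (s := {x, y})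
      (by rintro s (rfl | rfl); exacts [e1, e2])
    exact this (hcl x y hx hy ▸ Subgroup.mem_top w)
  refine (Nat.card_le_card_of_injective F hinj).trans (le_of_eq ?_)
  rw [Nat.card_sigma, Finset.sum_congr rfl (fun u _ => ?_), Finset.sum_const, Finset.card_univ,
    smul_eq_mul, ← Nat.card_eq_fintype_card]
  · congr 1
    have := Set.ncard_compl ({1} : Set W)
    rw [Set.ncard_singleton, hW] at this
    exact this
  · show Nat.card {v : W // v ∉ Subgroup.zpowers (u : W)} = r ^ 2 - r
    have := Set.ncard_compl ((Subgroup.zpowers (u : W) : Subgroup W) : Set W)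
    rw [hW, ← Nat.card_coe_set_eq, ← Nat.card_coe_set_eq] at this
    exact this.trans (by rw [show Nat.card ((Subgroup.zpowers (u : W) : Subgroup W) : Set W) =
      Nat.card (Subgroup.zpowers (u : W)) from rfl, hox u u.2])

theorem square_ne_three (x : ℕ) : x * x ≠ 3 := fun h => by
  have hx : x ≤ 1 := by
    by_contra hc
    have := Nat.mul_le_mul (show 2 ≤ x by omega) (show 2 ≤ x by omega)
    omega
  interval_cases x <;> omega

/-- The inverted set has square size, different from `9` if the operators are not solvable. -/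
theorem invSet_card {A : Type u} [Group A] {t a b : A} (ht : t * t = 1)
    (hc : ∀ g, t * g = g * t) (hab : a * b = t * (b * a)) :
    ∀ (n : ℕ) (K : Type v) [Group K] [Finite K], Nat.card K = n → Odd n → ∀ ρ : A →* MulAut K,
      IsSquare (Nat.card (invSet ρ t)) ∧
      ((∀ N : Subgroup A, N.Normal → t ∉ N → Group.IsSolvable N) → ¬ Group.IsSolvable A →
        Nat.card (invSet ρ t) ≠ 9) := by
  intro n
  induction n using Nat.strong_induction_on with
  | _ n ih =>
    intro K _ _ hn hodd ρ
    subst hn
    rcases subsingleton_or_nontrivial K with hK | hK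
    · have : Nat.card (invSet ρ t) ≤ 1 := (Nat.card_le_card_of_injective _
        Subtype.val_injective).trans (le_of_eq (Nat.card_unique (α := K)))
      have h1 : Nonempty (invSet ρ t) := ⟨⟨1, by simp [mem_invSet]⟩⟩
      have := Nat.card_pos (α := invSet ρ t)
      have e : Nat.card (invSet ρ t) = 1 := by omega
      rw [e]
      exact ⟨IsSquare.one, fun _ _ => by norm_num⟩
    by_cases hN : ∃ N : Subgroup K, N.Normal ∧ N ≠ ⊥ ∧ N ≠ ⊤ ∧ ∀ g, ∀ x ∈ N, ρ g x ∈ N
    · obtain ⟨N, hNn, hNb, hNt, hinv⟩ := hN
      haveI := hNn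
      have hl1 : Nat.card N < Nat.card K := by
        refine lt_of_le_of_ne (Subgroup.card_le_card_group N) fun e => hNt ?_
        exact Subgroup.eq_top_of_card_eq _ e
      have hl2 : Nat.card (K ⧸ N) < Nat.card K := by
        have h1 := Subgroup.card_mul_index N
        have h2 : 1 < Nat.card N := Finite.one_lt_card_iff_nontrivial.2
          ((Subgroup.nontrivial_iff_ne_bot N).2 hNb)
        have h3 : Nat.card (K ⧸ N) = N.index := rfl
        rw [h3]
        have h4 : 0 < N.index := Nat.pos_of_ne_zero Subgroup.index_ne_zero_of_finite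
        nlinarith
      obtain ⟨hs1, hn1⟩ := ih _ hl1 N rfl (hodd.of_dvd_nat (Subgroup.card_subgroup_dvd_card N))
        (restrictAct ρ N hinv)
      obtain ⟨hs2, hn2⟩ := ih _ hl2 (K ⧸ N) rfl (hodd.of_dvd_nat (Subgroup.index_dvd_card N))
        (quotAct ρ N hinv)
      rw [card_invSet_eq_mul hodd ρ ht N hinv]
      refine ⟨hs1.mul hs2, fun hA hA' h9 => ?_⟩
      have hd : Nat.card (invSet (restrictAct ρ N hinv) t) ∣ 3 ^ 2 := ⟨_, h9.symm⟩
      obtain ⟨j, hj, hje⟩ := (Nat.dvd_prime_pow Nat.prime_three).1 hd
      interval_cases j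
      · rw [hje, pow_zero, one_mul] at h9
        exact hn2 hA hA' h9
      · obtain ⟨x, hx⟩ := hs1
        exact square_ne_three x (by rw [← hx, hje]; rfl)
      · exact hn1 hA hA' (by rw [hje]; rfl)
    · push Not at hN
      haveI : Group.IsSolvable K := S0205.result hodd
      have hcomm : ∀ x y : K, x * y = y * x := by
        have h0 : commutator K = ⊥ := by
          by_contra h0
          obtain ⟨g, x, hx, hx'⟩ := hN (commutator K) inferInstance h0
            (Group.IsSolvable.commutator_lt_top_of_nontrivial K).ne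
          exact hx' (Subgroup.characteristic_iff_map_le.1 inferInstance (ρ g) ⟨x, hx, rfl⟩)
        intro x y
        have h1 : ⁅x, y⁆ ∈ commutator K :=
          Subgroup.commutator_mem_commutator (Subgroup.mem_top x) (Subgroup.mem_top y)
        rw [h0, Subgroup.mem_bot] at h1
        exact commutatorElement_eq_one_iff_mul_comm.1 h1
      letI : CommGroup K := { (inferInstance : Group K) with mul_comm := hcomm }
      obtain ⟨r, hr, hrK⟩ := Nat.exists_prime_and_dvd
        (Finite.one_lt_card (α := K)).ne'
      haveI := Fact.mk hr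
      let P : Subgroup K := (powMonoidHom r : K →* K).range
      have hP : P = ⊥ := by
        by_contra hP0
        have hPt : P ≠ ⊤ := by
          intro hPt
          obtain ⟨x, hx⟩ := exists_prime_orderOf_dvd_card' r hrK
          have hs : Function.Surjective (powMonoidHom r : K →* K) :=
            MonoidHom.range_eq_top.1 hPt
          have hi := Finite.injective_iff_surjective.2 hs
          have : x = 1 := hi (show x ^ r = (1 : K) ^ r by rw [one_pow, ← hx, pow_orderOf_eq_one])
          rw [this, orderOf_one] at hx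
          exact hr.one_lt.ne hx
        obtain ⟨g, x, hx, hx'⟩ := hN P inferInstance hP0 hPt
        obtain ⟨z, rfl⟩ := hx
        exact hx' ⟨ρ g z, (map_pow (ρ g) z r).symm⟩
      have hexp : ∀ x : K, x ^ r = 1 := fun x => by
        have : x ^ r ∈ P := ⟨x, rfl⟩
        rwa [hP, Subgroup.mem_bot] at this
      let W : Subgroup K :=
        { carrier := invSet ρ t
          one_mem' := by simp [mem_invSet]
          mul_mem' := fun {x y} hx hy => by
            rw [mem_invSet] at hx hy ⊢
            rw [map_mul, hx, hy, mul_inv]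
          inv_mem' := fun {x} hx => by
            rw [mem_invSet] at hx ⊢
            rw [map_inv, hx] }
      have hWinv : ∀ g, ∀ x ∈ W, ρ g x ∈ W := fun g x hx => by
        show ρ t (ρ g x) = (ρ g x)⁻¹
        rw [← MulAut.mul_apply, ← map_mul, hc g, map_mul, MulAut.mul_apply,
          mem_invSet.1 (hx : x ∈ invSet ρ t), map_inv]
      have hz : ∀ x : W, restrictAct ρ W hWinv t x = x⁻¹ := fun x => Subtype.ext x.2
      have hWc : Nat.card (invSet ρ t) = Nat.card W := rfl
      have hWodd : Odd (Nat.card W) := hodd.of_dvd_nat (Subgroup.card_subgroup_dvd_card W)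
      rw [hWc]
      refine ⟨S4296.comm_square hab _ W (restrictAct ρ W hWinv) hz hWodd rfl,
        fun hA hA' h9 => hA' ?_⟩
      have hr3 : r = 3 := by
        haveI : Nontrivial W := Finite.one_lt_card_iff_nontrivial.1 (by omega)
        obtain ⟨w, hw⟩ := exists_ne (1 : W)
        have h1 : orderOf w = r := orderOf_eq_prime (Subtype.ext (hexp (w : K))) hw
        have h2 : r ∣ 3 ^ 2 := by
          rw [← h1, show (3 : ℕ) ^ 2 = Nat.card W by rw [h9]; norm_num]
          exact orderOf_dvd_natCard w
        exact (Nat.prime_dvd_prime_iff_eq hr Nat.prime_three).1 (hr.dvd_of_dvd_pow h2)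
      subst hr3
      have hle := auto_card_le (W := W) Nat.prime_three (by rw [h9]; norm_num)
        (fun x => Subtype.ext (hexp (x : K)))
      let σ := restrictAct ρ W hWinv
      haveI : Finite (MulAut W) := Finite.of_injective (fun e => (e : W → W)) DFunLike.coe_injective
      have hker : t ∉ σ.ker := by
        intro htk
        haveI : Nontrivial W := Finite.one_lt_card_iff_nontrivial.1 (by omega)
        obtain ⟨w, hw⟩ := exists_ne (1 : W)
        have h1 : w⁻¹ = w := by
          rw [← hz w, show restrictAct ρ W hWinv t = 1 from htk, MulAut.one_apply]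
        have h2 : w * w = 1 := by
          nth_rewrite 1 [← h1]; exact inv_mul_cancel w
        have h3 : orderOf w = 3 := orderOf_eq_prime (Subtype.ext (hexp (w : K))) hw
        have h4 : orderOf w ∣ 2 := orderOf_dvd_of_pow_eq_one (by rw [sq]; exact h2)
        have h5 := Nat.le_of_dvd two_pos h4
        omega
      haveI := hA σ.ker inferInstance hker
      haveI : Group.IsSolvable σ.range :=
        Lie.ConstrainedRank.solvable_lt_sixty _ rfl (by
          have := Subgroup.card_le_card_group σ.range
          norm_num at hle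
          omega)
      exact Group.isSolvable_of_ker_le_range σ.ker.subtype σ.rangeRestrict (by
        rw [MonoidHom.ker_rangeRestrict, Subgroup.range_subtype])

end Cfsg.Agent.Pyramidal
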