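import Cfsg.Agent.S0205
import Cfsg.Agent.Lib.Solv.UniqueSub

/-!
# A non-solvable group with a single central involution contains two elements commuting up to it
-/

set_option autoImplicit false
set_option linter.style.haveILetI false

open scoped commutatorElement

namespace Cfsg.Agent.Pyramidal

universe u

variable {A : Type u} [Group A] [Finite A]

/-- A cyclic Sylow `2`-subgroup gives a solvable group. -/
theorem solvable_of_cyclic_two (P : Sylow 2 A) (hP : IsCyclic P) : Group.IsSolvable A := by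
  classical
  haveI : Fact (Nat.Prime 2) := ⟨Nat.prime_two⟩
  by_cases h2 : 2 ∣ Nat.card A
  swap
  · exact S0205.result (Nat.not_even_iff_odd.1 fun h => h2 h.two_dvd)
  have hmin : (Nat.card A).minFac = 2 := (Nat.minFac_eq_two_iff _).2 h2
  have hNC := hP.normalizer_le_centralizer hmin
  set f := MonoidHom.transferSylow P hNC with hf
  have hodd : Odd (Nat.card f.ker) := Nat.not_even_iff_odd.1 fun h =>
    MonoidHom.not_dvd_card_ker_transferSylow P hNC h.two_dvd
  haveI := S0205.result hodd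
  haveI : Group.IsSolvable f.range := by
    haveI : IsMulCommutative P := hP.isMulCommutative
    exact Group.isSolvable_of_comm fun a b => Subtype.ext (mul_comm' (a : P) (b : P))
  exact Group.isSolvable_of_ker_le_range f.ker.subtype f.rangeRestrict (by
    rw [MonoidHom.ker_rangeRestrict, Subgroup.range_subtype])

theorem exists_anticommuting {t : A} (ht : t * t = 1) (ht1 : t ≠ 1) (hc : ∀ g, t * g = g * t)
    (hu : ∀ x : A, x * x = 1 → x = 1 ∨ x = t) (hns : ¬ Group.IsSolvable A) :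
    ∃ a b : A, a * b = t * (b * a) := by
  classical
  haveI : Fact (Nat.Prime 2) := ⟨Nat.prime_two⟩
  obtain ⟨P⟩ := (inferInstance : Nonempty (Sylow 2 A))
  have htP : t ∈ (P : Subgroup A) := by
    haveI : (Subgroup.zpowers t).Normal := ⟨fun n hn g => by
      obtain ⟨i, rfl⟩ := Subgroup.mem_zpowers_iff.1 hn
      rw [show g * t ^ i * g⁻¹ = t ^ i by
        rw [((show Commute t g from hc g).zpow_left i).symm.eq, mul_inv_cancel_right]]
      exact Subgroup.zpow_mem_zpowers _ _⟩
    have hp : IsPGroup 2 (Subgroup.zpowers t) := IsPGroup.of_card (n := 1) (by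
      rw [Nat.card_zpowers, pow_one]; exact orderOf_eq_prime (by rw [sq]; exact ht) ht1)
    obtain ⟨Q, hQ⟩ := hp.exists_le_sylow
    obtain ⟨g, hg⟩ := MulAction.exists_smul_eq A Q P
    rw [← hg]
    exact ⟨t, hQ (Subgroup.mem_zpowers t), by
      show g * t * g⁻¹ = t
      rw [← hc g, mul_inv_cancel_right]⟩
  let S := (P : Subgroup A)
  let tS : S := ⟨t, htP⟩
  have huS : Solv.UniqueOrderP 2 S := by
    intro x y hx hy hy1
    have key : ∀ z : S, z ^ 2 = 1 → z = 1 ∨ z = tS := fun z hz =>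
      (hu z (by rw [← sq, ← Subgroup.coe_pow, hz]; rfl)).imp
        (fun h => Subtype.ext h) (fun h => Subtype.ext h)
    rw [(key y hy).resolve_left hy1]
    rcases key x hx with rfl | rfl
    exacts [one_mem _, Subgroup.mem_zpowers _]
  have hna : ¬ ∀ x y : S, x * y = y * x := by
    intro hab
    obtain ⟨a, -, ha⟩ := Solv.abelian_cyclic_of_unique P.isPGroup' huS ⊤ (fun x _ y _ => hab x y)
    exact hns (solvable_of_cyclic_two P ⟨a, fun x => (ha ▸ Subgroup.mem_top x : x ∈ Subgroup.zpowers a)⟩)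
  haveI : Nontrivial (S ⧸ Subgroup.center S) := by
    rw [QuotientGroup.nontrivial_iff]
    intro h
    exact hna fun x y => (Subgroup.mem_center_iff.1 (h ▸ Subgroup.mem_top x) y).symm
  haveI := (P.isPGroup'.to_quotient (Subgroup.center S)).center_nontrivial
  obtain ⟨⟨q, hq⟩, hq1⟩ := exists_ne (1 : Subgroup.center (S ⧸ Subgroup.center S))
  obtain ⟨a, rfl⟩ := QuotientGroup.mk_surjective q
  have ha : a ∉ Subgroup.center S := fun h => hq1 (Subtype.ext ((QuotientGroup.eq_one_iff a).2 h))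
  have hz : ∀ x : S, ⁅a, x⁆ ∈ Subgroup.center S := fun x => by
    rw [← QuotientGroup.eq_one_iff]
    show QuotientGroup.mk' _ ⁅a, x⁆ = 1
    rw [map_commutatorElement, commutatorElement_eq_one_iff_mul_comm]
    exact (Subgroup.mem_center_iff.1 hq (QuotientGroup.mk x)).symm
  let φ : S →* S := MonoidHom.mk' (fun x => ⁅a, x⁆) fun x y => by
    show ⁅a, x * y⁆ = ⁅a, x⁆ * ⁅a, y⁆
    calc ⁅a, x * y⁆ = ⁅a, x⁆ * (x * ⁅a, y⁆ * x⁻¹) := by simp only [commutatorElement_def]; group
      _ = ⁅a, x⁆ * ⁅a, y⁆ := by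
        rw [Subgroup.mem_center_iff.1 (hz y) x, mul_inv_cancel_right]
  obtain ⟨b, hb⟩ : ∃ b, φ b ≠ 1 := by
    by_contra h
    push Not at h
    exact ha (Subgroup.mem_center_iff.2 fun x =>
      (commutatorElement_eq_one_iff_mul_comm.1 (h x)).symm)
  obtain ⟨m, hm⟩ := IsPGroup.iff_orderOf.1 P.isPGroup' (φ b)
  have hm0 : m ≠ 0 := fun h0 => hb (orderOf_eq_one_iff.1 (by rw [hm, h0, pow_zero]))
  obtain ⟨m, rfl⟩ := Nat.exists_eq_succ_of_ne_zero hm0
  have ho : orderOf (φ b ^ 2 ^ m) = 2 := by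
    rw [orderOf_pow, hm, pow_succ, Nat.gcd_eq_right (Dvd.intro _ rfl),
      Nat.mul_div_cancel_left _ (pow_pos two_pos m)]
  have h2 : φ b ^ 2 ^ m = tS := by
    refine Subtype.ext ((hu _ ?_).resolve_left fun h => ?_)
    · have h := pow_orderOf_eq_one (φ b ^ 2 ^ m)
      rw [ho] at h
      rw [← sq, ← Subgroup.coe_pow, h]; rfl
    · rw [show φ b ^ 2 ^ m = 1 from Subtype.ext h, orderOf_one] at ho
      omega
  refine ⟨(a : A), ((b ^ 2 ^ m : S) : A), ?_⟩
  have h3 : ⁅a, b ^ 2 ^ m⁆ = tS := by rw [← h2, ← map_pow]; rfl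
  have h4 : ⁅(a : A), ((b ^ 2 ^ m : S) : A)⁆ = t := congrArg Subtype.val h3
  rw [← h4, commutatorElement_def]
  group

end Cfsg.Agent.Pyramidal
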