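import Cfsg.Prelude.Def_CaseTheorems
import Cfsg.Agent.Lib.Pyramidal.Basic
import Cfsg.Agent.Lib.Pyramidal.Inverted
import Cfsg.Agent.Lib.Pyramidal.Pair
import Cfsg.Agent.Lib.Perm.Kazarin
import Cfsg.Agent.Lib.Fusion.Cores
import Cfsg.Agent.Lib.Solv.Gross.Exceptional

/-!
# Pyramidal groups: reduction to groups whose involutions form an elementary abelian normal subgroup
-/

set_option autoImplicit false
set_option linter.style.haveILetI false
set_option linter.unusedSectionVars false

namespace Cfsg.Agent.Pyramidal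

universe u

variable {G : Type u} [Group G] [Finite G]

theorem mul_self_of_orderOf {x : G} (h : orderOf x = 2) : x * x = 1 ∧ x ≠ 1 := by
  refine ⟨?_, fun h1 => ?_⟩
  · rw [← sq, ← h, pow_orderOf_eq_one]
  · rw [h1, orderOf_one] at h
    omega

theorem orderOf_of_mul_self {x : G} (h : x * x = 1) (h1 : x ≠ 1) : orderOf x = 2 :=
  orderOf_eq_prime (by rw [sq]; exact h) h1

/-- The class size of an involution when there is one class. -/
theorem index_centralizer_eq {x : G} (hx : orderOf x = 2)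
    (hconj : ∀ y : G, orderOf y = 2 → ∃ g : G, g * x * g⁻¹ = y) :
    (Subgroup.centralizer ({x} : Set G)).index = Nat.card {y : G // orderOf y = 2} := by
  set C := Subgroup.centralizer ({x} : Set G)
  have hiff : ∀ g h : G, g * x * g⁻¹ = h * x * h⁻¹ ↔ g⁻¹ * h ∈ C := fun g h => by
    rw [Subgroup.mem_centralizer_singleton_iff]
    constructor
    · intro e
      calc g⁻¹ * h * x = g⁻¹ * (h * x * h⁻¹) * h := by group
        _ = g⁻¹ * (g * x * g⁻¹) * h := by rw [e]
        _ = x * (g⁻¹ * h) := by group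
    · intro e
      calc g * x * g⁻¹ = g * (x * (g⁻¹ * h)) * h⁻¹ := by group
        _ = g * (g⁻¹ * h * x) * h⁻¹ := by rw [e]
        _ = h * x * h⁻¹ := by group
  let f : G ⧸ C → {y : G // orderOf y = 2} := Quotient.lift
    (fun g => (⟨g * x * g⁻¹, by
      have h := orderOf_injective (MulAut.conj g).toMonoidHom (MulAut.conj g).injective x
      exact h.trans hx⟩ : {y : G // orderOf y = 2}))
    fun g h hgh => Subtype.ext ((hiff g h).2 (QuotientGroup.leftRel_apply.1 hgh))
  refine Nat.card_congr (Equiv.ofBijective f ⟨?_, ?_⟩)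
  · intro u v
    refine Quotient.inductionOn₂ u v fun g h e => ?_
    exact QuotientGroup.eq.2 ((hiff g h).1 (congrArg Subtype.val e))
  · rintro ⟨y, hy⟩
    obtain ⟨g, hg⟩ := hconj y hy
    exact ⟨QuotientGroup.mk g, Subtype.ext hg⟩

/-- Involutions modulo a normal subgroup of odd order lift to involutions. -/
theorem exists_lift (K : Subgroup G) [K.Normal] (hK : Odd (Nat.card K)) {y : G ⧸ K}
    (hy : orderOf y = 2) : ∃ u : G, orderOf u = 2 ∧ (u : G ⧸ K) = y := by
  obtain ⟨s, rfl⟩ := QuotientGroup.mk_surjective y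
  obtain ⟨hy2, hy1⟩ := mul_self_of_orderOf hy
  have hs : s * s ∈ K := (QuotientGroup.eq_one_iff _).1 hy2
  obtain ⟨e, he⟩ : Odd (orderOf (s * s)) := by
    rw [← Subgroup.orderOf_mk (s * s) hs]
    exact hK.of_dvd_nat (orderOf_dvd_natCard _)
  refine ⟨s ^ (2 * e + 1), orderOf_of_mul_self ?_ ?_, ?_⟩
  · rw [← (Commute.refl s).mul_pow, ← he, pow_orderOf_eq_one]
  · intro h
    apply hy1
    have h1 : ((s : G ⧸ K)) ^ (2 * e + 1) = 1 := by rw [← QuotientGroup.mk_pow, h]; rfl
    rw [pow_succ, pow_mul, sq, hy2, one_pow, one_mul] at h1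
    exact h1
  · rw [QuotientGroup.mk_pow, pow_succ, pow_mul, sq, hy2, one_pow, one_mul]

theorem mk_ne_one (K : Subgroup G) [K.Normal] (hK : Odd (Nat.card K)) {u : G}
    (hu : orderOf u = 2) : (u : G ⧸ K) ≠ 1 := by
  intro h
  have h1 : orderOf u ∣ Nat.card K := by
    rw [← Subgroup.orderOf_mk u ((QuotientGroup.eq_one_iff _).1 h)]
    exact orderOf_dvd_natCard _
  rw [hu] at h1
  exact Nat.not_even_iff_odd.2 hK (even_iff_two_dvd.2 h1)

/-- The case where the involution is unique modulo a normal subgroup of odd order. -/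
theorem square_of_unique {p k : ℕ} (K : Subgroup G) [K.Normal] (hK : Odd (Nat.card K))
    (hcard : Nat.card {x : G // orderOf x = 2} = p ^ k)
    {t : G} (ht : orderOf t = 2)
    (huni : ∀ s : G, orderOf s = 2 → (s : G ⧸ K) = (t : G ⧸ K)) (hns : ¬ Group.IsSolvable G) :
    IsSquare (p ^ k) ∧ p ^ k ≠ 9 := by
  classical
  haveI hKs : Group.IsSolvable K := S0205.result hK
  obtain ⟨ht2, ht1⟩ := mul_self_of_orderOf ht
  set C := Subgroup.centralizer ({t} : Set G) with hC
  have htC : t ∈ C := Subgroup.mem_centralizer_singleton_iff.2 rfl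
  have hcover : ∀ g : G, ∃ c ∈ C, c⁻¹ * g ∈ K := by
    intro g
    obtain ⟨s, hs⟩ : ∃ s, s = g * t * g⁻¹ := ⟨_, rfl⟩
    have hso : orderOf s = 2 := hs ▸
      (orderOf_injective (MulAut.conj g).toMonoidHom (MulAut.conj g).injective t).trans ht
    obtain ⟨hs2, -⟩ := mul_self_of_orderOf hso
    have hk : s * t ∈ K := by
      rw [← QuotientGroup.eq_one_iff, QuotientGroup.mk_mul, huni s hso, ← QuotientGroup.mk_mul,
        ht2]
      rfl
    have hti : t⁻¹ = t := inv_eq_of_mul_eq_one_right ht2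
    have hsi : s⁻¹ = s := inv_eq_of_mul_eq_one_right hs2
    obtain ⟨m, hm⟩ := exists_root (K := K) hK (x := ⟨s * t, hk⟩)
    have hm' : (s * t) ^ m * (s * t) ^ m = s * t := congrArg Subtype.val hm
    set j := (s * t) ^ m with hj
    have hinv : t * j * t = j⁻¹ := by
      calc t * j * t = (MulAut.conj t) ((s * t) ^ m) := by
            rw [MulAut.conj_apply, hti]
        _ = (t * (s * t) * t⁻¹) ^ m := by rw [map_pow, MulAut.conj_apply]
        _ = ((s * t)⁻¹) ^ m := by rw [mul_inv_rev, hsi, hti, ← mul_assoc, mul_assoc (t * s), ht2,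
              mul_one]
        _ = j⁻¹ := by rw [inv_pow]
    have hs' : s = j * t * j⁻¹ := by
      rw [← hinv]
      calc s = s * t * t := by rw [mul_assoc, ht2, mul_one]
        _ = j * j * t := by rw [hm']
        _ = j * (t * t) * j * t := by rw [ht2, mul_one]
        _ = j * t * (t * j * t) := by group
    refine ⟨j⁻¹ * g, Subgroup.mem_centralizer_singleton_iff.2 ?_, ?_⟩
    · have h1 : g * t * g⁻¹ = j * t * j⁻¹ := hs.symm.trans hs'
      calc j⁻¹ * g * t = j⁻¹ * (g * t * g⁻¹) * g := by group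
        _ = t * (j⁻¹ * g) := by rw [h1]; group
    · rw [show (j⁻¹ * g)⁻¹ * g = g⁻¹ * j * g by group]
      exact Subgroup.Normal.conj_mem' inferInstance j (K.pow_mem hk m) g
  have hnsC : ¬ Group.IsSolvable C := by
    intro hsC
    apply hns
    let f : C →* G ⧸ K := (QuotientGroup.mk' K).comp C.subtype
    haveI : Group.IsSolvable (G ⧸ K) := by
      refine Group.isSolvable_of_surjective (f := f) fun q => ?_
      obtain ⟨g, rfl⟩ := QuotientGroup.mk_surjective q
      obtain ⟨c, hc, hcg⟩ := hcover g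
      exact ⟨⟨c, hc⟩, QuotientGroup.eq.2 hcg⟩
    exact Group.isSolvable_of_ker_le_range K.subtype (QuotientGroup.mk' K) (by
      rw [QuotientGroup.ker_mk', Subgroup.range_subtype])
  have huC : ∀ x : C, x * x = 1 → x = 1 ∨ x = ⟨t, htC⟩ := by
    intro x hx
    by_contra hne
    push Not at hne
    have hxo : orderOf (x : G) = 2 := orderOf_of_mul_self (congrArg Subtype.val hx)
      (fun h => hne.1 (Subtype.ext h))
    have hxt : Commute (x : G) t := Subgroup.mem_centralizer_singleton_iff.1 x.2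
    have hxt2 : (x : G) * t * ((x : G) * t) = 1 := by
      calc (x : G) * t * ((x : G) * t) = (x : G) * (t * (x : G)) * t := by group
        _ = ((x : G) * (x : G)) * (t * t) := by rw [← hxt.eq]; group
        _ = 1 := by rw [(mul_self_of_orderOf hxo).1, ht2, one_mul]
    have hxt1 : (x : G) * t ≠ 1 := fun h => hne.2 (Subtype.ext (by
      rw [eq_inv_of_mul_eq_one_left h]
      exact inv_eq_of_mul_eq_one_right ht2))
    refine mk_ne_one K hK (orderOf_of_mul_self hxt2 hxt1) ?_
    rw [QuotientGroup.mk_mul, huni _ hxo, ← QuotientGroup.mk_mul, ht2]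
    rfl
  have hcC : ∀ g : C, (⟨t, htC⟩ : C) * g = g * ⟨t, htC⟩ := fun g =>
    Subtype.ext (Subgroup.mem_centralizer_singleton_iff.1 g.2).symm
  have htC2 : (⟨t, htC⟩ : C) * ⟨t, htC⟩ = 1 := Subtype.ext ht2
  obtain ⟨a, b, hab⟩ := exists_anticommuting htC2
    (fun h => ht1 (congrArg Subtype.val h)) hcC huC hnsC
  let ρ : C →* MulAut K := MulAut.conjNormal.comp C.subtype
  obtain ⟨hsq, hne9⟩ := invSet_card htC2 hcC hab (Nat.card K) K rfl hK ρ
  have hti : t⁻¹ = t := inv_eq_of_mul_eq_one_right ht2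
  have hI : Nat.card (invSet ρ ⟨t, htC⟩) = p ^ k := by
    rw [← hcard]
    let f : invSet ρ ⟨t, htC⟩ → {x : G // orderOf x = 2} := fun x =>
      ⟨((x : K) : G) * t, by
        have hx : t * ((x : K) : G) * t⁻¹ = ((x : K) : G)⁻¹ := congrArg Subtype.val (mem_invSet.1 x.2)
        refine orderOf_of_mul_self ?_ fun h => ?_
        · rw [hti] at hx
          calc ((x : K) : G) * t * (((x : K) : G) * t) = ((x : K) : G) * (t * (x : K) * t) := by group
            _ = 1 := by rw [hx, mul_inv_cancel]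
        · refine mk_ne_one K hK ht ((QuotientGroup.eq_one_iff _).2 ?_)
          rw [show t = ((x : K) : G)⁻¹ from eq_inv_of_mul_eq_one_right h]
          exact K.inv_mem (x : K).2⟩
    refine Nat.card_congr (Equiv.ofBijective f ⟨?_, ?_⟩)
    · intro x y h
      exact Subtype.ext (Subtype.ext (mul_right_cancel (congrArg Subtype.val h)))
    · rintro ⟨s, hs⟩
      have hk : s * t ∈ K := by
        rw [← QuotientGroup.eq_one_iff, QuotientGroup.mk_mul, huni s hs, ← QuotientGroup.mk_mul,
          ht2]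
        rfl
      refine ⟨⟨⟨s * t, hk⟩, Subtype.ext ?_⟩, Subtype.ext ?_⟩
      · show t * (s * t) * t⁻¹ = (s * t)⁻¹
        rw [mul_inv_rev, inv_eq_of_mul_eq_one_right (mul_self_of_orderOf hs).1, hti]
        rw [← mul_assoc, mul_assoc (t * s), ht2, mul_one]
      · show s * t * t = s
        rw [mul_assoc, ht2, mul_one]
  rw [← hI]
  refine ⟨hsq, hne9 (fun N _ htN => ?_) hnsC⟩
  apply S0205.result
  rw [← Nat.not_even_iff_odd, even_iff_two_dvd]
  intro h2
  haveI : Fact (Nat.Prime 2) := ⟨Nat.prime_two⟩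
  obtain ⟨x, hx⟩ := exists_prime_orderOf_dvd_card' 2 h2
  rcases huC (x : C) (congrArg Subtype.val (mul_self_of_orderOf hx).1) with h | h
  · exact (mul_self_of_orderOf hx).2 (Subtype.ext h)
  · exact htN (h ▸ x.2)

/-- An involution lies in an abelian normal subgroup of a group with trivial odd core, as soon as
it lies in a normal solvable subgroup and there is one class of involutions. -/
theorem exists_involIn {X : Type u} [Group X] [Finite X] (hcore : Cfsg.oddCore X = ⊥)
    (hconj : ∀ x y : X, orderOf x = 2 → orderOf y = 2 → ∃ g : X, g * x * g⁻¹ = y)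
    (R : Subgroup X) (hR : R.Normal) (hRs : Group.IsSolvable R) {x : X} (hx : orderOf x = 2)
    (hxR : x ∈ R) : ∃ E : Subgroup X, InvolIn E := by
  classical
  haveI := hR
  haveI := hRs
  have h : ∃ n, derivedSeries R n = ⊥ := (Group.isSolvable_def R).1 inferInstance
  have h0 : Nat.find h ≠ 0 := fun h0 => by
    have h1 := Nat.find_spec h
    rw [h0, derivedSeries_zero] at h1
    have h2 : (⟨x, hxR⟩ : R) ∈ (⊥ : Subgroup R) := h1 ▸ Subgroup.mem_top _
    exact (mul_self_of_orderOf hx).2 (congrArg Subtype.val (Subgroup.mem_bot.1 h2))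
  obtain ⟨d, hd⟩ := Nat.exists_eq_succ_of_ne_zero h0
  let M : Subgroup X := (derivedSeries R d).map R.subtype
  haveI hMn : M.Normal := by infer_instance
  have hMne : M ≠ ⊥ := fun hM => Nat.find_min h (show d < Nat.find h by omega)
    ((Subgroup.map_eq_bot_iff_of_injective _ R.subtype_injective).1 hM)
  have hMc : ∀ a ∈ M, ∀ b ∈ M, a * b = b * a := by
    rintro _ ⟨a, ha, rfl⟩ _ ⟨b, hb, rfl⟩
    have h1 := Nat.find_spec h
    rw [hd, derivedSeries_succ, Subgroup.commutator_eq_bot_iff_le_centralizer] at h1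
    exact congrArg Subtype.val (Subgroup.mem_centralizer_iff.1 (h1 ha) b hb).symm
  let E : Subgroup X :=
    { carrier := {a | a ∈ M ∧ a * a = 1}
      one_mem' := ⟨M.one_mem, one_mul 1⟩
      mul_mem' := fun {a b} ha hb => ⟨M.mul_mem ha.1 hb.1, by
        calc a * b * (a * b) = a * (b * a) * b := by group
          _ = (a * a) * (b * b) := by rw [hMc b hb.1 a ha.1]; group
          _ = 1 := by rw [ha.2, hb.2, one_mul]⟩
      inv_mem' := fun {a} ha => ⟨M.inv_mem ha.1, by rw [← mul_inv_rev, ha.2, inv_one]⟩ }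
  have hEn : E.Normal := ⟨fun a ha g => ⟨hMn.conj_mem a ha.1 g, by
    calc g * a * g⁻¹ * (g * a * g⁻¹) = g * (a * a) * g⁻¹ := by group
      _ = 1 := by rw [ha.2, mul_one, mul_inv_cancel]⟩⟩
  refine ⟨E, hEn, fun a ha b hb => hMc a ha.1 b hb.1, fun a => ⟨fun ha => ?_, fun ha => ha.2⟩⟩
  by_cases ha1 : a = 1
  · subst ha1; exact E.one_mem
  haveI : Fact (Nat.Prime 2) := ⟨Nat.prime_two⟩
  have h2 : 2 ∣ Nat.card M := by
    by_contra h2
    refine hMne (le_bot_iff.1 ?_)
    rw [← hcore]
    exact Fusion.le_pPrimeCore ((Nat.Prime.coprime_iff_not_dvd Nat.prime_two).2 h2).symm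
  obtain ⟨⟨v, hvM⟩, hv⟩ := exists_prime_orderOf_dvd_card' 2 h2
  rw [Subgroup.orderOf_mk] at hv
  obtain ⟨g, hg⟩ := hconj v a hv (orderOf_of_mul_self ha ha1)
  rw [← hg]
  exact hEn.conj_mem v ⟨hvM, (mul_self_of_orderOf hv).1⟩ g

/-- The reduction. -/
theorem solvable_of_core {p k : ℕ} (hp : p.Prime) (hp2 : p ≠ 2) (hk : 1 ≤ k)
    (hk' : Odd k ∨ p ^ k = 9)
    (hcore : ∀ (X : Type u) [Group X] [Finite X] (n : ℕ) (E : Subgroup X), n.Prime →
      (2 ^ n - 1).Prime → InvolIn E → Nat.card E = 2 ^ n → Cfsg.oddCore X = ⊥ →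
      (∀ u ∈ E, ∀ v ∈ E, u ≠ 1 → v ≠ 1 → ∃ x : X, x * u * x⁻¹ = v) → Group.IsSolvable X)
    (G : Type u) [Group G] [Finite G] (hcard : Nat.card {x : G // orderOf x = 2} = p ^ k)
    (hconj : ∀ x y : G, orderOf x = 2 → orderOf y = 2 → ∃ g : G, g * x * g⁻¹ = y) :
    Group.IsSolvable G := by
  classical
  haveI := Fact.mk hp
  by_contra hns
  set K := Cfsg.pPrimeCore 2 G with hKdef
  haveI : K.Normal := Solv.pPrimeCore_normal 2
  have hK : Odd (Nat.card K) := Nat.coprime_two_right.1 (Solv.pPrimeCore_coprime (G := G) 2)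
  haveI : Group.IsSolvable K := S0205.result hK
  obtain ⟨⟨t, ht⟩⟩ : Nonempty {x : G // orderOf x = 2} :=
    (Nat.card_pos_iff.1 (hcard ▸ pow_pos hp.pos k)).1
  have hidx : (Subgroup.centralizer ({t} : Set G)).index = p ^ k :=
    (index_centralizer_eq ht (hconj t · ht)).trans hcard
  have htR : t ∈ solvableRadical G := Perm.Kazarin.mem_rad hidx
  have hX0 : Cfsg.oddCore (G ⧸ K) = ⊥ := Fusion.pPrimeCore_quotient_eq_bot (p := 2) (G := G)
  have htX : orderOf (t : G ⧸ K) = 2 := orderOf_of_mul_self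
    (by rw [← QuotientGroup.mk_mul, (mul_self_of_orderOf ht).1]; rfl) (mk_ne_one K hK ht)
  have hconjX : ∀ x y : G ⧸ K, orderOf x = 2 → orderOf y = 2 →
      ∃ g : G ⧸ K, g * x * g⁻¹ = y := by
    intro x y hx hy
    obtain ⟨u, hu, rfl⟩ := exists_lift K hK hx
    obtain ⟨v, hv, rfl⟩ := exists_lift K hK hy
    obtain ⟨g, hg⟩ := hconj u v hu hv
    exact ⟨g, by rw [← hg]; rfl⟩
  haveI := Perm.Kazarin.rad_normal (G := G)
  haveI := Perm.Kazarin.rad_solvable (G := G)
  obtain ⟨E, hE⟩ := exists_involIn hX0 hconjX ((solvableRadical G).map (QuotientGroup.mk' K))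
    (Subgroup.Normal.map inferInstance _ (QuotientGroup.mk'_surjective K))
    (Group.isSolvable_of_surjective (f := (QuotientGroup.mk' K).subgroupMap _)
      ((QuotientGroup.mk' K).subgroupMap_surjective _)) htX ⟨t, htR, rfl⟩
  -- the number of involutions of the quotient
  have hcardX : Nat.card E = Nat.card {x : G ⧸ K // orderOf x = 2} + 1 := by
    have h1 := Set.ncard_sdiff_singleton_add_one (s := (E : Set (G ⧸ K))) E.one_mem
    rw [← Nat.card_coe_set_eq, ← Nat.card_coe_set_eq] at h1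
    rw [show Nat.card E = Nat.card (E : Set (G ⧸ K)) from rfl, ← h1]
    congr 1
    refine Nat.card_congr (Equiv.subtypeEquivRight fun x => ?_)
    constructor
    · exact fun h => orderOf_of_mul_self (hE.sq_eq_one h.1) h.2
    · exact fun h => ⟨hE.mem_of_sq (mul_self_of_orderOf h).1, (mul_self_of_orderOf h).2⟩
  obtain ⟨j, -, hj⟩ : ∃ j ≤ k, Nat.card {x : G ⧸ K // orderOf x = 2} = p ^ j := by
    refine (Nat.dvd_prime_pow hp).1 ?_
    rw [← index_centralizer_eq htX (hconjX _ · htX), ← hidx]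
    refine (Subgroup.index_dvd_of_le (H := (Subgroup.centralizer ({t} : Set G)).map
      (QuotientGroup.mk' K)) ?_).trans
      (Subgroup.index_map_dvd _ (QuotientGroup.mk'_surjective K))
    rintro _ ⟨c, hc, rfl⟩
    rw [SetLike.mem_coe, Subgroup.mem_centralizer_singleton_iff] at hc
    rw [Subgroup.mem_centralizer_singleton_iff]
    show ((c * t : G) : G ⧸ K) = ((t * c : G) : G ⧸ K)
    rw [hc]
  haveI : Fact (Nat.Prime 2) := ⟨Nat.prime_two⟩
  obtain ⟨n, hn⟩ : ∃ n, Nat.card E = 2 ^ n := IsPGroup.iff_card.1 fun x =>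
    ⟨1, by rw [pow_one, sq]; exact Subtype.ext (hE.sq_eq_one x.2)⟩
  rw [hj, hn] at hcardX
  rcases Nat.eq_zero_or_pos j with rfl | hjpos
  · haveI : Subsingleton {x : G ⧸ K // orderOf x = 2} :=
      (Nat.card_eq_one_iff_unique.1 (by rw [hj, pow_zero])).1
    obtain ⟨hsq, h9⟩ := square_of_unique K hK hcard ht (fun s hs => by
      have hsX : orderOf (s : G ⧸ K) = 2 := orderOf_of_mul_self
        (by rw [← QuotientGroup.mk_mul, (mul_self_of_orderOf hs).1]; rfl) (mk_ne_one K hK hs)
      exact congrArg Subtype.val (Subsingleton.elim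
        (⟨_, hsX⟩ : {x : G ⧸ K // orderOf x = 2}) ⟨_, htX⟩)) hns
    rcases hk' with hk' | hk'
    · obtain ⟨r, hr⟩ := hsq
      obtain ⟨i, -, rfl⟩ := (Nat.dvd_prime_pow hp).1 (Dvd.intro r hr.symm)
      rw [← pow_add] at hr
      have := Nat.pow_right_injective hp.two_le hr
      exact Nat.not_even_iff_odd.2 hk' ⟨i, this⟩
    · exact h9 hk'
  · have hn2 : 2 ≤ n := by
      by_contra hn2
      have h1 : 2 ^ n ≤ 2 := by
        calc 2 ^ n ≤ 2 ^ 1 := Nat.pow_le_pow_right two_pos (by omega)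
          _ = 2 := pow_one 2
      have h2 : p ≤ p ^ j := Nat.le_self_pow (by omega) p
      have := hp.two_le
      omega
    have hj1 : j = 1 := Solv.Gross.mersenne_pow_eq_one (hp.odd_of_ne_two hp2) hn2 hcardX.symm
    subst hj1
    rw [pow_one] at hcardX
    have hnp : (2 ^ n - 1).Prime := by
      rw [show 2 ^ n - 1 = p by omega]; exact hp
    haveI : Group.IsSolvable (G ⧸ K) := hcore (G ⧸ K) n E
      (Nat.prime_of_pow_sub_one_prime (by omega) hnp).2 hnp hE hn hX0
      fun u hu v hv hu1 hv1 => hconjX u v (orderOf_of_mul_self (hE.sq_eq_one hu) hu1)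
        (orderOf_of_mul_self (hE.sq_eq_one hv) hv1)
    exact hns (Group.isSolvable_of_ker_le_range K.subtype (QuotientGroup.mk' K) (by
      rw [QuotientGroup.ker_mk', Subgroup.range_subtype]))

end Cfsg.Agent.Pyramidal
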